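import Groth.Agent.FunFld1.Places
import Mathlib.RingTheory.Unramified.Field
import Mathlib.RingTheory.Kaehler.Basic
import Mathlib.FieldTheory.SeparablyGenerated
import Mathlib.FieldTheory.Perfect

/-!
Separating elements of a function field of one variable: `dt ≠ 0` implies `K/k(t)` separable.
-/

open IntermediateField

namespace Groth.Funfld2.Hasse

variable {k K : Type*} [Field k] [Field K] [Algebra k K]

theorem essFiniteType_of_isFF (hF : Groth.FunFld1.IsFF k K) : Algebra.EssFiniteType k K := by
  obtain ⟨x, -, hfin⟩ := id hF
  have : Algebra.EssFiniteType k (IntermediateField.adjoin k ({x} : Set K)) :=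
    IntermediateField.essFiniteType_iff.2
      (IntermediateField.fg_def.2 ⟨{x}, Set.finite_singleton x, rfl⟩)
  exact Algebra.EssFiniteType.comp k (IntermediateField.adjoin k ({x} : Set K)) K

/-- Over a perfect field there is a separating element. -/
theorem exists_separating [PerfectField k] (hF : Groth.FunFld1.IsFF k K) :
    ∃ x : K, Transcendental k x ∧
      Algebra.IsSeparable (IntermediateField.adjoin k ({x} : Set K)) K := by
  have := essFiniteType_of_isFF hF
  obtain ⟨s, hs, hsep⟩ := exists_isTranscendenceBasis_and_isSeparable_of_perfectField k K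
  have hcard := hs.cardinalMk_eq_trdeg
  rw [hF.trdeg_eq_one, Cardinal.mk_fintype] at hcard
  simp only [Fintype.card_coe, Nat.cast_eq_one] at hcard
  obtain ⟨x, rfl⟩ := Finset.card_eq_one.1 hcard
  refine ⟨x, hs.1.transcendental ⟨x, Finset.mem_singleton_self x⟩, ?_⟩
  rwa [Finset.coe_singleton] at hsep

/-- If `K/k(x)` is separable then `dx` generates `Ω[K/k]`. -/
theorem span_D_eq_top (x : K)
    [Algebra.IsSeparable (IntermediateField.adjoin k ({x} : Set K)) K] :
    Submodule.span K {KaehlerDifferential.D k K x} = ⊤ := by
  set N := Submodule.span K {KaehlerDifferential.D k K x} with hN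
  let F := IntermediateField.adjoin k ({x} : Set K)
  have : Algebra.FormallyUnramified F K := Algebra.FormallyUnramified.of_isSeparable F K
  let q : Derivation k K (Ω[K⁄k] ⧸ N) := N.mkQ.compDer (KaehlerDifferential.D k K)
  have hF0 : ∀ y : K, y ∈ F → q y = 0 := by
    intro y hy
    induction hy using IntermediateField.adjoin_induction with
    | mem z hz =>
      rw [Set.mem_singleton_iff] at hz
      subst hz
      exact (Submodule.Quotient.mk_eq_zero N).2 (Submodule.mem_span_singleton_self _)
    | algebraMap c => exact q.map_algebraMap c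
    | add a b _ _ ha hb => rw [map_add, ha, hb, add_zero]
    | mul a b _ _ ha hb => rw [q.leibniz, ha, hb, smul_zero, smul_zero, add_zero]
    | inv a _ ha => rw [q.leibniz_inv, ha, smul_zero]
  let q' : Derivation F K (Ω[K⁄k] ⧸ N) :=
    Derivation.mk'
      { toFun := q
        map_add' := map_add q
        map_smul' := fun c z => by
          rw [RingHom.id_apply, Algebra.smul_def, q.leibniz]
          rw [show q (algebraMap F K c) = 0 from hF0 _ c.2, smul_zero, add_zero]
          exact algebraMap_smul K c (q z) }
      (fun a b => q.leibniz a b)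
  have hq : q' = 0 := by
    ext z
    rw [← q'.liftKaehlerDifferential_comp_D, Subsingleton.elim (KaehlerDifferential.D F K z) 0,
      map_zero, Derivation.zero_apply]
  rw [eq_top_iff, ← KaehlerDifferential.span_range_derivation, Submodule.span_le]
  rintro _ ⟨y, rfl⟩
  rw [SetLike.mem_coe, ← Submodule.Quotient.mk_eq_zero]
  exact congrArg (fun d : Derivation F K (Ω[K⁄k] ⧸ N) => d y) hq

/-- `dt ≠ 0` implies that `K/k(t)` is separable. -/
theorem isSeparable_of_D_ne_zero {x : K}
    [Algebra.IsSeparable (IntermediateField.adjoin k ({x} : Set K)) K] (t : K)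
    (ht : KaehlerDifferential.D k K t ≠ 0)
    [FiniteDimensional (IntermediateField.adjoin k ({t} : Set K)) K] :
    Algebra.IsSeparable (IntermediateField.adjoin k ({t} : Set K)) K := by
  have htop := span_D_eq_top (k := k) x
  obtain ⟨c, hc⟩ := Submodule.mem_span_singleton.1
    (htop ▸ Submodule.mem_top : KaehlerDifferential.D k K t ∈
      Submodule.span K {KaehlerDifferential.D k K x})
  have hc0 : c ≠ 0 := by
    rintro rfl
    exact ht (by rw [← hc, zero_smul])
  have hspan : Submodule.span K {KaehlerDifferential.D k K t} = ⊤ := by
    rw [← hc, Submodule.span_singleton_smul_eq hc0.isUnit, htop]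
  let F := IntermediateField.adjoin k ({t} : Set K)
  have : Subsingleton (Ω[K⁄F]) := by
    rw [subsingleton_iff_forall_eq 0]
    intro w
    obtain ⟨v, rfl⟩ := KaehlerDifferential.map_surjective k F K w
    obtain ⟨a, rfl⟩ := Submodule.mem_span_singleton.1
      (hspan ▸ Submodule.mem_top : v ∈ Submodule.span K {KaehlerDifferential.D k K t})
    rw [map_smul, KaehlerDifferential.map_D, Algebra.algebraMap_self, RingHom.id_apply,
      show t = algebraMap F K ⟨t, IntermediateField.mem_adjoin_simple_self k t⟩ from rfl,
      Derivation.map_algebraMap, smul_zero]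
  have : Algebra.FormallyUnramified F K := ⟨this⟩
  exact Algebra.FormallyUnramified.isSeparable F K

/-- Separability over `k(t)` over a perfect field, from a derivation with nonzero value at `t`. -/
theorem isSeparable_of_derivation [PerfectField k] (hF : Groth.FunFld1.IsFF k K) {t : K}
    {M : Type*} [AddCommGroup M] [Module K M] [Module k M] [IsScalarTower k K M]
    (d : Derivation k K M) (ht : d t ≠ 0) (htr : Transcendental k t) :
    Algebra.IsSeparable (IntermediateField.adjoin k ({t} : Set K)) K := by
  obtain ⟨x, -, hx⟩ := exists_separating hF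
  have := hF.finiteDimensional htr
  refine isSeparable_of_D_ne_zero (x := x) t fun h => ht ?_
  rw [← d.liftKaehlerDifferential_comp_D, h, map_zero]

end Groth.Funfld2.Hasse
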