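import Mathlib.RingTheory.LaurentSeries
import Mathlib.RingTheory.PowerSeries.Basic
import Mathlib.Algebra.Order.Interval.Finset.Basic
import Mathlib.Data.Int.Interval

/-!
The product rule for Hasse derivatives of Laurent series and the Taylor homomorphism
`f ↦ ∑ (D^(n) f) T^n`.
-/

open scoped LaurentSeries
open HahnSeries

namespace Groth.Funfld2.Hasse

variable {R : Type*} [CommRing R]

theorem coeff_mul_Icc {f g : R⸨X⸩} {A B : ℤ} (hf : ∀ a < A, f.coeff a = 0)
    (hg : ∀ b < B, g.coeff b = 0) (M : ℤ) :
    (f * g).coeff M = ∑ a ∈ Finset.Icc A (M - B), f.coeff a * g.coeff (M - a) := by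
  classical
  rw [HahnSeries.coeff_mul]
  refine Finset.sum_of_injOn Prod.fst ?_ ?_ ?_ ?_
  · intro p hp q hq h
    simp only [Finset.mem_coe, Finset.mem_antidiagonal] at hp hq
    ext <;> omega
  · intro p hp
    simp only [Finset.mem_coe, Finset.mem_antidiagonal, HahnSeries.mem_support] at hp
    simp only [Finset.mem_coe, Finset.mem_Icc]
    constructor
    · by_contra h
      exact hp.1 (hf _ (by omega))
    · by_contra h
      exact hp.2.1 (hg _ (by omega))
  · intro a _ hnot
    by_contra h
    apply hnot
    refine ⟨(a, M - a), ?_, rfl⟩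
    simp only [Finset.mem_coe, Finset.mem_antidiagonal, HahnSeries.mem_support]
    exact ⟨left_ne_zero_of_mul h, right_ne_zero_of_mul h, by ring⟩
  · intro p hp
    simp only [Finset.mem_antidiagonal] at hp
    rw [show M - p.1 = p.2 by omega]

/-- Leibniz rule for Hasse derivatives of Laurent series. -/
theorem hasseDeriv_mul (n : ℕ) (f g : R⸨X⸩) :
    LaurentSeries.hasseDeriv R n (f * g) =
      ∑ ij ∈ Finset.HasAntidiagonal.antidiagonal n,
        LaurentSeries.hasseDeriv R ij.1 f * LaurentSeries.hasseDeriv R ij.2 g := by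
  have lo : ∀ h : R⸨X⸩, ∀ a < h.order, h.coeff a = 0 :=
    fun h a ha => HahnSeries.coeff_eq_zero_of_lt_order ha
  ext m
  rw [LaurentSeries.hasseDeriv_coeff, HahnSeries.coeff_sum, coeff_mul_Icc (lo f) (lo g),
    Finset.smul_sum]
  have e : ∀ ij ∈ Finset.HasAntidiagonal.antidiagonal n,
      (LaurentSeries.hasseDeriv R ij.1 f * LaurentSeries.hasseDeriv R ij.2 g).coeff m =
        ∑ a ∈ Finset.Icc f.order (m + n - g.order),
          (Ring.choose a ij.1 * Ring.choose (m + n - a) ij.2) • (f.coeff a * g.coeff (m + n - a)) := by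
    intro ij hij
    rw [Finset.HasAntidiagonal.mem_antidiagonal] at hij
    rw [coeff_mul_Icc (A := f.order - ij.1) (B := g.order - ij.2)
      (fun a ha => by rw [LaurentSeries.hasseDeriv_coeff, lo f _ (by omega), smul_zero])
      (fun a ha => by rw [LaurentSeries.hasseDeriv_coeff, lo g _ (by omega), smul_zero])]
    refine Finset.sum_nbij' (fun a => a + (ij.1 : ℤ)) (fun a => a - (ij.1 : ℤ)) ?_ ?_ ?_ ?_ ?_
    · intro a ha; simp only [Finset.mem_Icc] at ha ⊢; omega
    · intro a ha; simp only [Finset.mem_Icc] at ha ⊢; omega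
    · intro a _; ring
    · intro a _; ring
    · intro a _
      rw [LaurentSeries.hasseDeriv_coeff, LaurentSeries.hasseDeriv_coeff, smul_mul_smul_comm,
        show m - a + (ij.2 : ℤ) = m + n - (a + ij.1) by omega]
  rw [Finset.sum_congr rfl e, Finset.sum_comm]
  refine Finset.sum_congr rfl fun a _ => ?_
  rw [← Finset.sum_smul, ← Ring.add_choose_eq _ (Commute.all a (m + n - a)), add_sub_cancel]

/-- The Taylor expansion `f ↦ f (X + T)` of Laurent series, as a ring homomorphism. -/
noncomputable def taylorL : R⸨X⸩ →+* PowerSeries R⸨X⸩ where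
  toFun f := PowerSeries.mk fun n => LaurentSeries.hasseDeriv R n f
  map_one' := by
    ext n
    rw [PowerSeries.coeff_mk, ← HahnSeries.single_zero_one, LaurentSeries.hasseDeriv_single,
      PowerSeries.coeff_one]
    cases n with
    | zero => simp
    | succ n => simp
  map_mul' f g := by
    ext1 n
    rw [PowerSeries.coeff_mul, PowerSeries.coeff_mk, hasseDeriv_mul]
    simp only [PowerSeries.coeff_mk]
  map_zero' := by ext1 n; simp
  map_add' f g := by ext1 n; simp

@[simp] theorem coeff_taylorL (f : R⸨X⸩) (n : ℕ) :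
    PowerSeries.coeff n (taylorL f) = LaurentSeries.hasseDeriv R n f := by
  simp [taylorL]

theorem taylorL_single_one :
    taylorL (HahnSeries.single 1 (1 : R)) =
      PowerSeries.C (HahnSeries.single 1 (1 : R)) + PowerSeries.X := by
  ext1 n
  rw [coeff_taylorL, LaurentSeries.hasseDeriv_single, map_add, PowerSeries.coeff_C,
    PowerSeries.coeff_X]
  rcases n with _ | _ | n
  · simp
  · simp
  · have : Ring.choose (1 : ℤ) (n + 1 + 1) = 0 := by
      have := Ring.choose_natCast (R := ℤ) 1 (n + 1 + 1)
      simpa [Nat.choose_eq_zero_of_lt] using this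
    simp [this]

theorem taylorL_C (c : R) : taylorL (HahnSeries.C c) = PowerSeries.C (HahnSeries.C c) := by
  ext1 n
  rw [coeff_taylorL, HahnSeries.C_apply, LaurentSeries.hasseDeriv_single, PowerSeries.coeff_C]
  cases n with
  | zero => simp
  | succ n => simp

@[simp] theorem taylorL_single_zero (c : R) :
    taylorL (HahnSeries.single 0 c) = PowerSeries.C (HahnSeries.single 0 c) := taylorL_C c

end Groth.Funfld2.Hasse
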