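import Groth.Prelude.Def_LocRes
import Groth.Agent.Funfld2.Hasse.Laurent
import Groth.Agent.Funfld2.Hasse.Separable
import Mathlib.RingTheory.PowerSeries.Inverse
import Mathlib.RingTheory.LocalRing.RingHom.Basic

/-!
Total Hasse derivatives: uniqueness, the composition rule, compatibility with expansions, constants.
-/

open scoped LaurentSeries
open Polynomial

namespace Groth.Funfld2.Hasse

variable {k K : Type*} [Field k] [Field K] [Algebra k K]

/-- Two homomorphisms into a local ring that agree on a subfield over which the source is separable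
and agree modulo the maximal ideal are equal. -/
theorem ringHom_ext_of_separable (F : IntermediateField k K) [Algebra.IsSeparable F K] {B : Type*}
    [CommRing B] [IsLocalRing B] (f g : K →+* B)
    (hF : ∀ z ∈ F, f z = g z) (hres : ∀ y, f y - g y ∈ IsLocalRing.maximalIdeal B) : f = g := by
  ext y
  set p := minpoly F y with hp
  have hfg : (f.comp (algebraMap F K)) = g.comp (algebraMap F K) := RingHom.ext fun z => hF _ z.2
  set q := p.map (f.comp (algebraMap F K)) with hq
  have hroot : ∀ h : K →+* B, h.comp (algebraMap F K) = f.comp (algebraMap F K) →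
      q.eval (h y) = 0 := by
    intro h hh
    rw [hq, ← hh, eval_map, ← hom_eval₂, ← aeval_def, minpoly.aeval, map_zero]
  have hf := hroot f rfl
  have hg := hroot g hfg.symm
  have hunit : IsUnit ((derivative q).eval (g y)) := by
    rw [hq, derivative_map, hfg, eval_map, ← hom_eval₂, ← aeval_def]
    refine (isUnit_iff_ne_zero.2 ?_).map g
    exact (Algebra.IsSeparable.isSeparable F y).aeval_derivative_ne_zero (minpoly.aeval F y)
  obtain ⟨z, hz⟩ := q.binomExpansion (g y) (f y - g y)
  rw [add_sub_cancel, hf, hg, zero_add] at hz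
  have h0 : ((derivative q).eval (g y) + z * (f y - g y)) * (f y - g y) = 0 := by
    rw [hz]; ring
  have hu : IsUnit ((derivative q).eval (g y) + z * (f y - g y)) := by
    by_contra hn
    have h1 : (derivative q).eval (g y) + z * (f y - g y) ∈ IsLocalRing.maximalIdeal B := hn
    exact (IsLocalRing.mem_maximalIdeal _).1
      ((Submodule.add_mem_iff_left _ (Ideal.mul_mem_left _ z (hres y))).1 h1) hunit
  exact sub_eq_zero.1 (hu.mul_right_eq_zero.1 h0)

/-- Two ring homomorphisms out of `K` that agree on `k` and `t` agree on `k(t)`. -/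
theorem eqOn_adjoin {B : Type*} [CommRing B] (f g : K →+* B)
    (hk : ∀ c : k, f (algebraMap k K c) = g (algebraMap k K c)) {t : K} (ht : f t = g t) :
    ∀ z ∈ IntermediateField.adjoin k ({t} : Set K), f z = g z := by
  intro z hz
  induction hz using IntermediateField.adjoin_induction with
  | mem w hw => rw [Set.mem_singleton_iff] at hw; rw [hw]; exact ht
  | algebraMap c => exact hk c
  | add a b _ _ ha hb => rw [map_add, map_add, ha, hb]
  | mul a b _ _ ha hb => rw [map_mul, map_mul, ha, hb]
  | inv a _ ha =>
    rcases eq_or_ne a 0 with rfl | hne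
    · rw [inv_zero, map_zero, map_zero]
    · have h1 : f a * f a⁻¹ = 1 := by rw [← map_mul, mul_inv_cancel₀ hne, map_one]
      have h2 : g a * g a⁻¹ = 1 := by rw [← map_mul, mul_inv_cancel₀ hne, map_one]
      rw [ha] at h1
      calc f a⁻¹ = (g a * g a⁻¹) * f a⁻¹ := by rw [h2, one_mul]
        _ = g a⁻¹ * (g a * f a⁻¹) := by ring
        _ = g a⁻¹ := by rw [h1, mul_one]

theorem powerSeries_hom_ext {L : Type*} [Field L] {t : K}
    [Algebra.IsSeparable (IntermediateField.adjoin k ({t} : Set K)) K]
    (f g : K →+* PowerSeries L) (hk : ∀ c : k, f (algebraMap k K c) = g (algebraMap k K c))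
    (ht : f t = g t) (h0 : ∀ y, PowerSeries.constantCoeff (f y) = PowerSeries.constantCoeff (g y)) :
    f = g := by
  refine ringHom_ext_of_separable (IntermediateField.adjoin k ({t} : Set K)) f g
    (eqOn_adjoin f g hk ht) fun y => ?_
  rw [IsLocalRing.mem_maximalIdeal, mem_nonunits_iff, PowerSeries.isUnit_iff_constantCoeff,
    map_sub, h0 y, sub_self]
  exact not_isUnit_zero

variable {t : K} {H : K →ₐ[k] PowerSeries K}

theorem hasseD_zero (hH : LocRes.IsHasseFamily t H) (y : K) : LocRes.hasseD H 0 y = y := by
  rw [LocRes.hasseD_apply, PowerSeries.coeff_zero_eq_constantCoeff_apply]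
  exact hH.2 y

theorem hasseD_one_self (hH : LocRes.IsHasseFamily t H) : LocRes.hasseD H 1 t = 1 := by
  simp [LocRes.hasseD_apply, hH.1, PowerSeries.coeff_C]

theorem hasseD_self_add_two (hH : LocRes.IsHasseFamily t H) (n : ℕ) :
    LocRes.hasseD H (n + 2) t = 0 := by
  simp [LocRes.hasseD_apply, hH.1, PowerSeries.coeff_C, PowerSeries.coeff_X]

theorem hasseD_add (H : K →ₐ[k] PowerSeries K) (j : ℕ) (a b : K) :
    LocRes.hasseD H j (a + b) = LocRes.hasseD H j a + LocRes.hasseD H j b := by
  simp [LocRes.hasseD_apply]

theorem hasseD_sum (H : K →ₐ[k] PowerSeries K) (j : ℕ) {ι : Type*} (s : Finset ι) (a : ι → K) :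
    LocRes.hasseD H j (∑ i ∈ s, a i) = ∑ i ∈ s, LocRes.hasseD H j (a i) := by
  simp [LocRes.hasseD_apply, map_sum]

theorem hasseD_smul (H : K →ₐ[k] PowerSeries K) (j : ℕ) (c : k) (a : K) :
    LocRes.hasseD H j (c • a) = c • LocRes.hasseD H j a := by
  simp [LocRes.hasseD_apply, map_smul, PowerSeries.coeff_smul]

theorem hasseD_mul (H : K →ₐ[k] PowerSeries K) (j : ℕ) (a b : K) :
    LocRes.hasseD H j (a * b) = ∑ ij ∈ Finset.HasAntidiagonal.antidiagonal j,
      LocRes.hasseD H ij.1 a * LocRes.hasseD H ij.2 b := by
  simp [LocRes.hasseD_apply, PowerSeries.coeff_mul]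

theorem hasseD_algebraMap (H : K →ₐ[k] PowerSeries K) {j : ℕ} (hj : j ≠ 0) (c : k) :
    LocRes.hasseD H j (algebraMap k K c) = 0 := by
  rw [LocRes.hasseD_apply, H.commutes, PowerSeries.algebraMap_apply, PowerSeries.coeff_C, if_neg hj]

/-- The first Hasse derivative as a derivation. -/
noncomputable def d1 (hH : LocRes.IsHasseFamily t H) : Derivation k K K :=
  Derivation.mk'
    { toFun := LocRes.hasseD H 1
      map_add' := hasseD_add H 1
      map_smul' := hasseD_smul H 1 }
    fun a b => by
      have h := hasseD_mul H 1 a b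
      rw [Finset.Nat.sum_antidiagonal_succ, Finset.Nat.antidiagonal_zero, Finset.sum_singleton] at h
      simp only [LinearMap.coe_mk, AddHom.coe_mk, smul_eq_mul]
      rw [h, zero_add, hasseD_zero hH, hasseD_zero hH]
      ring

theorem d1_apply (hH : LocRes.IsHasseFamily t H) (y : K) : d1 hH y = LocRes.hasseD H 1 y := rfl

theorem transcendental_of_hasse (hK : FunFld.IsFunctionField k K)
    (hH : LocRes.IsHasseFamily t H) : Transcendental k t := by
  intro halg
  obtain ⟨c, hc⟩ := hK.2 t halg
  have := hasseD_one_self hH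
  rw [← hc, hasseD_algebraMap H one_ne_zero] at this
  exact zero_ne_one this

theorem isSeparable_of_hasse [PerfectField k] (hK : FunFld.IsFunctionField k K)
    (hH : LocRes.IsHasseFamily t H) :
    Algebra.IsSeparable (IntermediateField.adjoin k ({t} : Set K)) K :=
  isSeparable_of_derivation (Groth.FunFld1.IsFF.of_isFunctionField hK) (d1 hH)
    (by rw [d1_apply, hasseD_one_self hH]; exact one_ne_zero) (transcendental_of_hasse hK hH)

variable [Algebra.IsSeparable (IntermediateField.adjoin k ({t} : Set K)) K]

/-- Compatibility of Hasse derivatives with a homomorphism into Laurent series sending `t` to a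
translate of `X`. -/
theorem map_hasseD_eq (hH : LocRes.IsHasseFamily t H) {L : Type*} [Field L]
    (ψ : K →+* L⸨X⸩) (hk : ∀ c : k, ∃ c' : L, ψ (algebraMap k K c) = HahnSeries.C c')
    {a : L} (ht : ψ t = HahnSeries.C a + HahnSeries.single 1 1) (n : ℕ) (y : K) :
    ψ (LocRes.hasseD H n y) = LaurentSeries.hasseDeriv L n (ψ y) := by
  have key : (PowerSeries.map ψ).comp H.toRingHom = taylorL.comp ψ := by
    refine powerSeries_hom_ext (k := k) (t := t) _ _ (fun c => ?_) ?_ fun z => ?_
    · obtain ⟨c', hc'⟩ := hk c
      simp [H.commutes, PowerSeries.algebraMap_apply, hc']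
    · simp [hH.1, ht, taylorL_single_one]
      abel
    · have h : PowerSeries.constantCoeff (taylorL (ψ z)) = ψ z := by
        rw [← PowerSeries.coeff_zero_eq_constantCoeff_apply, coeff_taylorL,
          LaurentSeries.hasseDeriv_zero]
        rfl
      rw [RingHom.comp_apply, RingHom.comp_apply, h, ← PowerSeries.coeff_zero_eq_constantCoeff_apply,
        PowerSeries.coeff_map, PowerSeries.coeff_zero_eq_constantCoeff_apply]
      exact congrArg ψ (hH.2 z)
  have := congrArg (fun f : K →+* PowerSeries L⸨X⸩ => PowerSeries.coeff n (f y)) key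
  simpa [LocRes.hasseD_apply] using this

/-- The composition rule for Hasse derivatives. -/
theorem hasseD_comp (hH : LocRes.IsHasseFamily t H) (j m : ℕ) (y : K) :
    LocRes.hasseD H j (LocRes.hasseD H m y) = (j + m).choose m • LocRes.hasseD H (j + m) y := by
  have h := map_hasseD_eq hH ((HahnSeries.ofPowerSeries ℤ K).comp H.toRingHom)
    (fun c => ⟨algebraMap k K c, by
      simp [H.commutes, PowerSeries.algebraMap_apply]⟩) (a := t) (by simp [hH.1]) m y
  have h2 := congrArg (fun f : K⸨X⸩ => f.coeff (j : ℤ)) h
  simp only [RingHom.coe_comp, Function.comp_apply, AlgHom.toRingHom_eq_coe, RingHom.coe_coe,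
    LaurentSeries.hasseDeriv_coeff] at h2
  rw [HahnSeries.ofPowerSeries_apply_coeff,
    show (j : ℤ) + (m : ℤ) = ((j + m : ℕ) : ℤ) by push_cast; ring,
    HahnSeries.ofPowerSeries_apply_coeff, Ring.choose_natCast] at h2
  simp only [LocRes.hasseD_apply] at h2 ⊢
  rw [h2, Nat.cast_smul_eq_nsmul]

/-- A total Hasse derivative with respect to a separating element is unique. -/
theorem hasseFamily_unique {H' : K →ₐ[k] PowerSeries K} (hH : LocRes.IsHasseFamily t H)
    (hH' : LocRes.IsHasseFamily t H') : H = H' :=
  AlgHom.coe_ringHom_injective (powerSeries_hom_ext (k := k) (t := t) H.toRingHom H'.toRingHom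
    (fun c => by simp) (by simp [hH.1, hH'.1]) fun y => by simp [hH.2, hH'.2])

omit [Algebra.IsSeparable (IntermediateField.adjoin k ({t} : Set K)) K] in
/-- The constants of a total Hasse derivative are the elements of `k`. -/
theorem mem_range_of_hasseD_eq_zero (hK : FunFld.IsFunctionField k K)
    (hH : LocRes.IsHasseFamily t H) {y : K} (hy : ∀ j, j ≠ 0 → LocRes.hasseD H j y = 0) :
    y ∈ Set.range (algebraMap k K) := by
  by_contra hne
  have htr : Transcendental k y := fun h => hne (hK.2 y h)
  have hHy : H y = PowerSeries.C y := by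
    ext j
    rw [PowerSeries.coeff_C]
    split_ifs with hj
    · subst hj; rw [PowerSeries.coeff_zero_eq_constantCoeff_apply]; exact hH.2 y
    · exact hy j hj
  have hfin := (Groth.FunFld1.IsFF.of_isFunctionField hK).finiteDimensional htr
  let F := IntermediateField.adjoin k ({y} : Set K)
  have hagree : ∀ z ∈ F, H z = PowerSeries.C z :=
    eqOn_adjoin H.toRingHom (PowerSeries.C (R := K))
      (fun c => by simp [PowerSeries.algebraMap_apply]) hHy
  set p := minpoly F t with hp
  have hint : IsIntegral F t := Algebra.IsIntegral.isIntegral t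
  set P := p.map (algebraMap F K) with hP
  have hPm : P.Monic := (minpoly.monic hint).map _
  have h0 : (P.comp (Polynomial.C t + Polynomial.X) : K[X]) = 0 := by
    refine Polynomial.coe_injective K ?_
    have hhom : ∀ q : K[X], ((q.comp (Polynomial.C t + Polynomial.X) : K[X]) : PowerSeries K) =
        q.eval₂ (PowerSeries.C (R := K)) (PowerSeries.C t + PowerSeries.X) := by
      intro q
      induction q using Polynomial.induction_on' with
      | add a b ha hb => simp [Polynomial.eval₂_add, ha, hb]
      | monomial n a => simp [Polynomial.monomial_comp, Polynomial.eval₂_monomial]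
    rw [hhom, Polynomial.coe_zero, hP, Polynomial.eval₂_map, ← hH.1,
      show (PowerSeries.C (R := K)).comp (algebraMap F K) = H.toRingHom.comp (algebraMap F K) from
        RingHom.ext fun z => (hagree _ z.2).symm,
      show (H t) = H.toRingHom t from rfl, ← Polynomial.hom_eval₂, ← Polynomial.aeval_def,
      minpoly.aeval, map_zero]
  have hPc : (P.comp (Polynomial.C t + Polynomial.X)).Monic :=
    hPm.comp (by rw [add_comm]; exact Polynomial.monic_X_add_C t)
      (by rw [add_comm, Polynomial.natDegree_X_add_C]; exact one_ne_zero)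
  exact hPc.ne_zero h0

end Groth.Funfld2.Hasse
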