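import Groth.Agent.Funfld2.PlaceBasic
import Groth.Agent.Funfld2.Hasse.Basic
import Mathlib.RingTheory.PowerSeries.Trunc

/-!
The Laurent expansion at a place of degree one in a given local parameter.
-/

open scoped LaurentSeries WithZero
open FunFld

namespace Groth.Funfld2.Hasse

variable {k K : Type*} [Field k] [Field K] [Algebra k K] (P : Place k K) (t : K)

/-- `f` is the expansion of `z` at `P` in powers of `t`. -/
def IsExp (z : K) (f : PowerSeries k) : Prop :=
  ∀ n : ℕ, P.1 (z - Polynomial.aeval t (PowerSeries.trunc n f)) ≤ WithZero.exp (-(n : ℤ))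

variable {P t}

theorem val_t_pow (ht : P.1 t = WithZero.exp (-1)) (n : ℕ) :
    P.1 (t ^ n) = WithZero.exp (-(n : ℤ)) := by
  rw [map_pow, ht, ← WithZero.exp_nsmul]; simp

theorem val_aeval_le_one (ht : P.1 t = WithZero.exp (-1)) (p : Polynomial k) :
    P.1 (Polynomial.aeval t p) ≤ 1 := by
  induction p using Polynomial.induction_on' with
  | add p q hp hq => rw [map_add]; exact (P.1.map_add _ _).trans (max_le hp hq)
  | monomial n a =>
    rw [Polynomial.aeval_monomial, map_mul]
    refine mul_le_one' (P.2.1 a) ?_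
    rw [val_t_pow ht, ← WithZero.exp_zero, WithZero.exp_le_exp]
    omega

theorem val_aeval_le_of_dvd (ht : P.1 t = WithZero.exp (-1)) {n : ℕ} {p : Polynomial k}
    (h : Polynomial.X ^ n ∣ p) : P.1 (Polynomial.aeval t p) ≤ WithZero.exp (-(n : ℤ)) := by
  obtain ⟨q, rfl⟩ := h
  rw [map_mul, map_pow, Polynomial.aeval_X, map_mul, val_t_pow ht]
  exact mul_le_of_le_one_right' (val_aeval_le_one ht q)

theorem coeff_eq_zero_of_val_aeval (ht : P.1 t = WithZero.exp (-1)) {n : ℕ} {p : Polynomial k}
    (h : P.1 (Polynomial.aeval t p) ≤ WithZero.exp (-(n : ℤ))) {i : ℕ} (hi : i < n) :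
    p.coeff i = 0 := by
  induction i using Nat.strong_induction_on with
  | _ i ih =>
    by_contra hne
    have hdvd : Polynomial.X ^ (i + 1) ∣ p - Polynomial.monomial i (p.coeff i) := by
      rw [Polynomial.X_pow_dvd_iff]
      intro j hj
      rw [Polynomial.coeff_sub, Polynomial.coeff_monomial]
      split_ifs with e
      · subst e; exact sub_self _
      · rw [sub_zero]; exact ih j (by omega) (by omega)
    have h1 := val_aeval_le_of_dvd ht hdvd
    have h2 : P.1 (Polynomial.aeval t (Polynomial.monomial i (p.coeff i))) = WithZero.exp (-(i : ℤ)) := by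
      rw [Polynomial.aeval_monomial, map_mul, Groth.Funfld2.val_algebraMap P hne, one_mul, val_t_pow ht]
    have h3 : P.1 (Polynomial.aeval t p) = WithZero.exp (-(i : ℤ)) := by
      conv_lhs => rw [← sub_add_cancel p (Polynomial.monomial i (p.coeff i)), map_add]
      rw [Valuation.map_add_eq_of_lt_right P.1, h2]
      rw [h2]
      exact h1.trans_lt (by rw [WithZero.exp_lt_exp]; omega)
    rw [h3, WithZero.exp_le_exp] at h
    omega

theorem IsExp.unique (ht : P.1 t = WithZero.exp (-1)) {z : K} {f g : PowerSeries k}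
    (hf : IsExp P t z f) (hg : IsExp P t z g) : f = g := by
  ext i
  have h : P.1 (Polynomial.aeval t (PowerSeries.trunc (i + 1) f - PowerSeries.trunc (i + 1) g)) ≤
      WithZero.exp (-((i + 1 : ℕ) : ℤ)) := by
    rw [map_sub, show Polynomial.aeval t (PowerSeries.trunc (i + 1) f) -
      Polynomial.aeval t (PowerSeries.trunc (i + 1) g) =
      (z - Polynomial.aeval t (PowerSeries.trunc (i + 1) g)) -
        (z - Polynomial.aeval t (PowerSeries.trunc (i + 1) f)) by ring]
    exact (P.1.map_sub _ _).trans (max_le (hg _) (hf _))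
  have := coeff_eq_zero_of_val_aeval ht h (Nat.lt_succ_self i)
  rwa [Polynomial.coeff_sub, PowerSeries.coeff_trunc, PowerSeries.coeff_trunc, if_pos (Nat.lt_succ_self i),
    if_pos (Nat.lt_succ_self i), sub_eq_zero] at this

theorem IsExp.add {z w : K} {f g : PowerSeries k} (hf : IsExp P t z f) (hg : IsExp P t w g) :
    IsExp P t (z + w) (f + g) := fun n => by
  rw [map_add, map_add, add_sub_add_comm]
  exact (P.1.map_add _ _).trans (max_le (hf n) (hg n))

theorem isExp_zero : IsExp P t (0 : K) 0 := fun n => by simp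

theorem IsExp.mul (ht : P.1 t = WithZero.exp (-1)) {z w : K} {f g : PowerSeries k}
    (hw1 : P.1 w ≤ 1) (hf : IsExp P t z f) (hg : IsExp P t w g) :
    IsExp P t (z * w) (f * g) := fun n => by
  set a := PowerSeries.trunc n f
  set b := PowerSeries.trunc n g
  have hd : Polynomial.X ^ n ∣ a * b - PowerSeries.trunc n (f * g) := by
    rw [Polynomial.X_pow_dvd_iff]
    intro j hj
    rw [Polynomial.coeff_sub, PowerSeries.coeff_trunc, if_pos hj, Polynomial.coeff_mul,
      PowerSeries.coeff_mul, sub_eq_zero]
    refine Finset.sum_congr rfl fun p hp => ?_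
    rw [Finset.HasAntidiagonal.mem_antidiagonal] at hp
    rw [PowerSeries.coeff_trunc, PowerSeries.coeff_trunc, if_pos (by omega), if_pos (by omega)]
  have e : z * w - Polynomial.aeval t (PowerSeries.trunc n (f * g)) =
      (z - Polynomial.aeval t a) * w + Polynomial.aeval t a * (w - Polynomial.aeval t b) +
        Polynomial.aeval t (a * b - PowerSeries.trunc n (f * g)) := by
    simp only [map_sub, map_mul]; ring
  rw [e]
  refine (P.1.map_add _ _).trans (max_le ((P.1.map_add _ _).trans (max_le ?_ ?_))
    (val_aeval_le_of_dvd ht hd))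
  · rw [map_mul]; exact (mul_le_mul' (hf n) hw1).trans_eq (mul_one _)
  · rw [map_mul]; exact (mul_le_mul' (val_aeval_le_one ht a) (hg n)).trans_eq (one_mul _)

theorem isExp_polynomial (ht : P.1 t = WithZero.exp (-1)) (p : Polynomial k) :
    IsExp P t (Polynomial.aeval t p) (p : PowerSeries k) := fun n => by
  rw [← map_sub]
  refine val_aeval_le_of_dvd ht (Polynomial.X_pow_dvd_iff.2 fun j hj => ?_)
  rw [Polynomial.coeff_sub, PowerSeries.coeff_trunc, if_pos hj, Polynomial.coeff_coe, sub_self]

theorem exists_isExp (hdeg : P.deg = 1) (ht : P.1 t = WithZero.exp (-1)) {z : K} (hz : P.1 z ≤ 1) :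
    ∃ f : PowerSeries k, IsExp P t z f := by
  have ht0 : t ≠ 0 := fun e => by rw [e, map_zero] at ht; exact WithZero.exp_ne_zero ht.symm
  choose c hc using fun w : {w : K // P.1 w ≤ 1} => exists_const_residue hdeg w.2
  have hstep : ∀ w : {w : K // P.1 w ≤ 1}, P.1 ((w.1 - algebraMap k K (c w)) / t) ≤ 1 := by
    intro w
    rw [map_div₀, ht, div_le_one₀ WithZero.exp_pos]
    by_cases h0 : w.1 - algebraMap k K (c w) = 0
    · simp [h0]
    · have := hc w
      rw [val_lt_one_iff_ord P h0] at this
      rw [val_le_exp_iff P h0]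
      omega
  let next : {w : K // P.1 w ≤ 1} → {w : K // P.1 w ≤ 1} := fun w => ⟨_, hstep w⟩
  let seq : ℕ → {w : K // P.1 w ≤ 1} := fun n => next^[n] ⟨z, hz⟩
  refine ⟨PowerSeries.mk fun n => c (seq n), fun n => ?_⟩
  have hrep : ∀ n, z - Polynomial.aeval t (PowerSeries.trunc n (PowerSeries.mk fun n => c (seq n))) =
      t ^ n * (seq n).1 := by
    intro n
    induction n with
    | zero => simp [seq]
    | succ n ih =>
      have hs : seq (n + 1) = next (seq n) := Function.iterate_succ_apply' next n _
      rw [PowerSeries.trunc_succ, map_add, sub_add_eq_sub_sub, ih, Polynomial.aeval_monomial,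
        PowerSeries.coeff_mk, hs]
      change _ = t ^ (n + 1) * (((seq n).1 - algebraMap k K (c (seq n))) / t)
      field_simp
      ring
  rw [hrep, map_mul, val_t_pow ht]
  exact mul_le_of_le_one_right' (seq n).2

variable (hdeg : P.deg = 1) (ht : P.1 t = WithZero.exp (-1))

/-- Expansion on the valuation ring. -/
noncomputable def expInt : P.O →+* PowerSeries k where
  toFun z := (exists_isExp hdeg ht z.2).choose
  map_one' := IsExp.unique ht (exists_isExp hdeg ht (1 : P.O).2).choose_spec
    (by simpa using isExp_polynomial ht (1 : Polynomial k))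
  map_mul' a b := IsExp.unique ht (exists_isExp hdeg ht (a * b : P.O).2).choose_spec
    (IsExp.mul ht b.2 (exists_isExp hdeg ht a.2).choose_spec (exists_isExp hdeg ht b.2).choose_spec)
  map_zero' := IsExp.unique ht (exists_isExp hdeg ht (0 : P.O).2).choose_spec isExp_zero
  map_add' a b := IsExp.unique ht (exists_isExp hdeg ht (a + b : P.O).2).choose_spec
    ((exists_isExp hdeg ht a.2).choose_spec.add (exists_isExp hdeg ht b.2).choose_spec)

theorem expInt_spec (z : P.O) : IsExp P t (z : K) (expInt hdeg ht z) :=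
  (exists_isExp hdeg ht z.2).choose_spec

theorem expInt_eq {z : P.O} {f : PowerSeries k} (h : IsExp P t (z : K) f) :
    expInt hdeg ht z = f :=
  IsExp.unique ht (expInt_spec hdeg ht z) h

theorem expInt_injective : Function.Injective (expInt hdeg ht) := by
  rw [injective_iff_map_eq_zero]
  intro z hz
  by_contra hne
  have hne' : (z : K) ≠ 0 := fun e => hne (Subtype.ext e)
  have := expInt_spec hdeg ht z (P.ord (z : K)).natAbs.succ
  rw [hz, map_zero, map_zero, sub_zero, val_le_exp_iff P hne'] at this
  omega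

/-- The Laurent expansion at a place of degree one in the parameter `t`. -/
noncomputable def expansion : K →ₐ[k] k⸨X⸩ :=
  { (IsFractionRing.lift (K := K) (g := (HahnSeries.ofPowerSeries ℤ k).comp (expInt hdeg ht))
      (HahnSeries.ofPowerSeries_injective.comp (expInt_injective hdeg ht))) with
    commutes' := fun c => by
      have hz : P.1 (algebraMap k K c) ≤ 1 := P.2.1 c
      have e : expInt hdeg ht ⟨algebraMap k K c, hz⟩ = PowerSeries.C c :=
        expInt_eq hdeg ht (by simpa using isExp_polynomial ht (Polynomial.C c))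
      simp only [RingHom.toMonoidHom_eq_coe, OneHom.toFun_eq_coe, MonoidHom.toOneHom_coe,
        MonoidHom.coe_coe]
      rw [show algebraMap k K c = algebraMap P.O K ⟨algebraMap k K c, hz⟩ from rfl,
        IsFractionRing.lift_algebraMap, RingHom.comp_apply, e, HahnSeries.ofPowerSeries_C,
        LocRes.algebraMap_eq_C] }

theorem expansion_of_le_one {z : K} (hz : P.1 z ≤ 1) :
    expansion hdeg ht z = HahnSeries.ofPowerSeries ℤ k (expInt hdeg ht ⟨z, hz⟩) :=
  IsFractionRing.lift_algebraMap (K := K)
    (g := (HahnSeries.ofPowerSeries ℤ k).comp (expInt hdeg ht))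
    (HahnSeries.ofPowerSeries_injective.comp (expInt_injective hdeg ht)) ⟨z, hz⟩

theorem expansion_self : expansion hdeg ht t = HahnSeries.single 1 1 := by
  have h1 : P.1 t ≤ 1 := by rw [ht, ← WithZero.exp_zero, WithZero.exp_le_exp]; norm_num
  rw [expansion_of_le_one hdeg ht h1, expInt_eq hdeg ht (f := PowerSeries.X)
    (by simpa using isExp_polynomial ht (Polynomial.X : Polynomial k)), HahnSeries.ofPowerSeries_X]

theorem val_expansion (z : K) : Valued.v (expansion hdeg ht z) = P.1 z := by
  rcases eq_or_ne z 0 with rfl | hz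
  · simp
  have ht0 : t ≠ 0 := fun e => by rw [e, map_zero] at ht; exact WithZero.exp_ne_zero ht.symm
  have hu : P.1 (z / t ^ P.ord z) = 1 := by
    rw [map_div₀, map_zpow₀, ht, ← WithZero.exp_zsmul, val_eq_exp_ord P hz, smul_eq_mul,
      mul_neg, mul_one, div_self WithZero.exp_ne_zero]
  have hv : Valued.v (expansion hdeg ht (z / t ^ P.ord z)) = (1 : ℤᵐ⁰) := by
    have hle := hu.le
    refine le_antisymm ((LaurentSeries.val_le_one_iff_eq_coe k _).2
      ⟨_, (expansion_of_le_one hdeg ht hle).symm⟩) (not_lt.1 fun hlt => ?_)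
    have h1 : Valued.v (expansion hdeg ht (z / t ^ P.ord z)) ≤ WithZero.exp (-(1 : ℤ)) := by
      by_cases h0 : Valued.v (expansion hdeg ht (z / t ^ P.ord z)) = (0 : ℤᵐ⁰)
      · rw [h0]; exact zero_le
      · rw [← WithZero.exp_log h0, ← WithZero.exp_zero, WithZero.exp_lt_exp] at hlt
        rw [← WithZero.exp_log h0, WithZero.exp_le_exp]
        omega
    have h2 := (LaurentSeries.valuation_le_iff_coeff_lt_eq_zero k).1 h1 0 (by norm_num)
    rw [expansion_of_le_one hdeg ht hle, show (0 : ℤ) = ((0 : ℕ) : ℤ) from rfl,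
      HahnSeries.ofPowerSeries_apply_coeff] at h2
    have h3 := expInt_spec hdeg ht ⟨_, hle⟩ 1
    rw [PowerSeries.trunc_succ, h2] at h3
    simp only [PowerSeries.trunc_zero', map_zero, zero_add, sub_zero, hu] at h3
    rw [← WithZero.exp_zero, WithZero.exp_le_exp] at h3
    norm_num at h3
  calc Valued.v (expansion hdeg ht z)
      = Valued.v (expansion hdeg ht (z / t ^ P.ord z) * expansion hdeg ht t ^ P.ord z) := by
        rw [← map_zpow₀, ← map_mul, div_mul_cancel₀ z (zpow_ne_zero _ ht0)]
    _ = P.1 z := by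
        rw [map_mul, hv, one_mul, expansion_self, ← RatFunc.single_zpow,
          LaurentSeries.valuation_single_zpow, val_eq_exp_ord P hz]

theorem isExpansionAt_expansion : LocRes.IsExpansionAt P.1 (expansion hdeg ht) := by
  refine ⟨val_expansion hdeg ht, fun a => ⟨algebraMap k K a, P.2.1 a, ?_⟩, t, ht⟩
  rw [AlgHom.commutes, LocRes.algebraMap_eq_C, HahnSeries.C_apply, HahnSeries.coeff_single_same]

theorem coeff_zero_expansion {z : K} (hz : P.1 z ≤ 1) (c : k) :
    (expansion hdeg ht z).coeff 0 = c ↔ P.1 (z - algebraMap k K c) < 1 := by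
  set f := expInt hdeg ht ⟨z, hz⟩ with hf
  have h1 := expInt_spec hdeg ht ⟨z, hz⟩ 1
  rw [PowerSeries.trunc_succ] at h1
  simp only [PowerSeries.trunc_zero', zero_add, Polynomial.aeval_monomial, pow_zero, mul_one] at h1
  rw [expansion_of_le_one hdeg ht hz, show (0 : ℤ) = ((0 : ℕ) : ℤ) from rfl,
    HahnSeries.ofPowerSeries_apply_coeff, ← hf]
  rw [← hf] at h1
  have h1' : P.1 (z - algebraMap k K (PowerSeries.coeff 0 f)) < 1 :=
    h1.trans_lt (by rw [← WithZero.exp_zero, WithZero.exp_lt_exp]; norm_num)
  constructor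
  · rintro rfl; exact h1'
  · intro h
    by_contra hne
    have h2 : P.1 (algebraMap k K (c - PowerSeries.coeff 0 f)) < 1 := by
      rw [map_sub, show algebraMap k K c - algebraMap k K (PowerSeries.coeff 0 f) =
        (z - algebraMap k K (PowerSeries.coeff 0 f)) - (z - algebraMap k K c) by ring]
      exact (P.1.map_sub _ _).trans_lt (max_lt h1' h)
    rw [Groth.Funfld2.val_algebraMap P (sub_ne_zero.2 (Ne.symm hne))] at h2
    exact lt_irrefl _ h2

end Groth.Funfld2.Hasse
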