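import Groth.Agent.Funfld2.Hasse.AtExists
import Groth.Agent.Funfld2.Residue.Canonical

/-! Canonical divisors `[ds]`, the degree of the Weierstrass divisor and strong fixed points. -/

open FunFld Groth.FunFld1
open scoped LaurentSeries WithZero TensorProduct

namespace Groth.Funfld2.Hasse

universe u

/-- A function field over an algebraically closed field is geometric. -/
theorem isGeometric_of_isAlgClosed {k : Type u} [Field k] [IsAlgClosed k] {K : Type*} [Field K]
    [Algebra k K] : IsGeometric k K := by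
  intro k' _ _ _
  have hbij : Function.Bijective (algebraMap k k') :=
    IsAlgClosed.algebraMap_bijective_of_isIntegral
  let e : k ≃ₐ[k] k' := AlgEquiv.ofBijective (Algebra.ofId k k') hbij
  exact MulEquiv.isField (Field.toIsField K)
    ((Algebra.TensorProduct.congr e.symm AlgEquiv.refl).trans (Algebra.TensorProduct.lid k K)).toMulEquiv

variable {k : Type u} [Field k] [IsAlgClosed k] {K : Type*} [Field K] [Algebra k K]
  (hK : IsFunctionField k K) {s : K} {H : K →ₐ[k] PowerSeries K} (hH : LocRes.IsHasseFamily s H)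
  {Φ : Place k K → (K →ₐ[k] LaurentSeries k)}
  (hΦ : ∀ P : Place k K, LocRes.IsExpansionAt P.1 (Φ P))

include hH in
omit [IsAlgClosed k] in
theorem D_ne_zero : KaehlerDifferential.D k K s ≠ 0 := fun h => by
  have h1 := (d1 hH).liftKaehlerDifferential_comp_D s
  rw [h, map_zero, d1_apply, hasseD_one_self hH] at h1
  exact zero_ne_one h1

include hK hH hΦ

/-- The divisor of `ds` is canonical. -/
theorem isCanonical_divDiff : IsCanonical k K (divDiff Φ 1 s) := by
  have hg : IsGeometric k K := isGeometric_of_isAlgClosed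
  have hv := D_ne_zero hH
  obtain ⟨-, C, hC, hCeq⟩ := Residue.exists_canonical hK Φ hΦ hg one_ne_zero hv
  have he : divDiff Φ 1 s = C := by
    have hfin : (Function.support fun P : Place k K => LocRes.ordDiff (Φ P) 1 s).Finite :=
      C.finite_support.subset fun P hP => by rwa [Function.mem_support, hCeq P]
    rw [divDiff, dif_pos hfin]
    exact Finsupp.ext fun P => (hCeq P).symm
  rw [he]
  exact ⟨_, Residue.resForm_ne_zero hK Φ hΦ hg one_ne_zero hv, hC⟩

theorem deg_divDiff : (divDiff Φ 1 s).deg = 2 * (genus k K : ℤ) - 2 :=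
  deg_canonical hK (isCanonical_divDiff hK hH hΦ)

variable {n : ℕ} {φ : Fin (n + 1) → K}

/-- The degree of the Weierstrass divisor. -/
theorem deg_wDiv (τ : K →ₐ[k] K) (J : Fin n → ℕ) :
    (wDiv τ H Φ s φ J).deg = ((Module.finrank τ.fieldRange K : ℤ) + n) * (mapDiv k φ).deg +
      (2 * (genus k K : ℤ) - 2) * ∑ l, (J l : ℤ) := by
  have hF := IsFF.of_isFunctionField hK
  have hz : ∀ (a : ℤ) (D : Divisor k K), (a • D).deg = a * D.deg := by
    intro a D
    induction a using Int.induction_on with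
    | zero => simp [Groth.Funfld2.deg_zero']
    | succ i ih => rw [add_smul, one_smul, Groth.Funfld2.deg_add, ih]; ring
    | pred i ih => rw [sub_smul, one_smul, Groth.Funfld2.deg_sub, ih]; ring
  simp only [wDiv, Groth.Funfld2.deg_add, hz, hF.deg_div, deg_divDiff hK hH hΦ,
    hF.deg_mapDiv_algHom hF τ φ]
  ring

/-- Strong fixed points are finite in number, each of weight at least `n`. -/
theorem strongFixedPt_bound (hφ : LinearIndependent k φ) (τ : K →ₐ[k] K)
    (hτφ : ¬ ∃ y : K, ∀ i, τ (φ i) = y * φ i) {J : Fin n → ℕ}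
    (hJ : IsOrders K (hcol τ H φ) J) :
    {P : Place k K | IsStrongFixedPt τ P}.Finite ∧
      (n : ℤ) * (Set.ncard {P : Place k K | IsStrongFixedPt τ P} : ℤ) ≤
        ((n : ℤ) + Module.finrank τ.fieldRange K) * (mapDiv k φ).deg +
          (2 * (genus k K : ℤ) - 2) * ∑ l, (J l : ℤ) := by
  have hG := good_of_algClosed hK
  have hn : 0 < n := by
    by_contra hn
    obtain rfl : n = 0 := by omega
    refine hτφ ⟨τ (φ 0) / φ 0, fun i => ?_⟩
    rw [Fin.eq_zero i, div_mul_cancel₀ _ (hφ.ne_zero 0)]
  have hW := wDiv_nonneg hK hφ hH hJ hΦ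
  have hbound : ∀ P : Place k K, IsStrongFixedPt τ P → (n : ℤ) ≤ wDiv τ H Φ s φ J P := by
    intro P hP
    have hfix : IsFixedPt τ P := fun z hz => (hP z hz).trans_lt
      (by rw [← WithZero.exp_zero, WithZero.exp_lt_exp]; norm_num)
    obtain ⟨y, t, Ht, hy, ht, hHt, heff, hnorm, hψ, hJt, hw⟩ := exists_normalized hK hφ hH hJ hΦ P
    obtain ⟨J', hJ'⟩ := exists_orders_at hK ht hHt hψ heff hnorm
    rw [hw, wDiv_apply_normalized hG hfix hψ heff hnorm ht Ht J hΦ]
    refine le_trans ?_ (sum_le_ord_det hK ht hHt hψ heff hnorm hJ' hfix hJt).1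
    have h0 := orders_at_pos hK ht hHt hnorm hJ' ⟨0, hn⟩
    calc (n : ℤ) = ∑ _l : Fin n, (1 : ℤ) := by simp
      _ ≤ _ := Finset.sum_le_sum fun l _ => by
          have := torders_add_le hK ht hHt hψ heff hnorm hJ' hn hP hJt l
          omega
  have hfin : {P : Place k K | IsStrongFixedPt τ P}.Finite :=
    (wDiv τ H Φ s φ J).support.finite_toSet.subset fun P hP => by
      have := hbound P hP
      rw [Finset.mem_coe, Finsupp.mem_support_iff]
      omega
  refine ⟨hfin, ?_⟩
  have hdeg := deg_wDiv hK hH hΦ τ J (φ := φ)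
  rw [Set.ncard_eq_toFinset_card _ hfin]
  classical
  calc (n : ℤ) * (hfin.toFinset.card : ℤ) = ∑ _P ∈ hfin.toFinset, (n : ℤ) := by
        simp [mul_comm]
    _ ≤ ∑ P ∈ hfin.toFinset, wDiv τ H Φ s φ J P :=
        Finset.sum_le_sum fun P hP => hbound P (hfin.mem_toFinset.1 hP)
    _ ≤ ∑ P ∈ (wDiv τ H Φ s φ J).support ∪ hfin.toFinset, wDiv τ H Φ s φ J P :=
        Finset.sum_le_sum_of_subset_of_nonneg Finset.subset_union_right fun P _ _ => hW P
    _ = (wDiv τ H Φ s φ J).deg := by
        rw [Divisor.deg, Finsupp.sum_of_support_subset _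
          (Finset.subset_union_left (s₂ := hfin.toFinset)) _ (by simp)]
        simp [hG.deg_one]
    _ = _ := by rw [hdeg]; ring

end Groth.Funfld2.Hasse
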