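import Groth.Agent.Funfld2.Hasse.CanonicalMap
import Groth.Agent.FunFld1.Extension

/-! Weierstrass points in characteristic zero or large characteristic. -/

open FunFld Groth.FunFld1
open scoped LaurentSeries WithZero

namespace Groth.Funfld2.Hasse

variable {k K : Type*} [Field k] [IsAlgClosed k] [Field K] [Algebra k K]
  (hK : IsFunctionField k K)

/-- The place `P` has a nonconstant function with at most a double pole there. -/
def Hyp (P : Place k K) : Prop := L (Finsupp.single P (2 : ℤ)) ≠ L (Finsupp.single P (1 : ℤ))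

omit [IsAlgClosed k] in
theorem not_gap_even {P : Place k K} (h : Hyp P) : ∀ i : ℕ, 1 ≤ i → ¬ Gap P (2 * i) := by
  intro i hi
  induction i with
  | zero => omega
  | succ i ih =>
    intro hgap
    rcases Nat.eq_zero_or_pos i with rfl | hi0
    · exact h (by simpa [Gap] using hgap)
    · have h2 : L (Finsupp.single P ((2 : ℕ) : ℤ)) ≠ L (Finsupp.single P (((2 : ℕ) : ℤ) - 1)) := by
        simpa [Hyp] using h
      have := not_gap_add (ih hi0) h2
      rw [show 2 * i + 2 = 2 * (i + 1) by ring] at this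
      exact this hgap

theorem two_mul_sum_succ (n : ℕ) :
    2 * ∑ l : Fin n, ((l : ℕ) + 1 : ℤ) = (n : ℤ) * (n + 1) := by
  induction n with
  | zero => simp
  | succ n ih =>
    rw [Fin.sum_univ_castSucc, mul_add]
    simp only [Fin.val_castSucc, Fin.val_last]
    rw [ih]
    push_cast
    ring

section Weight

variable {C : Divisor k K} (hC : IsCanonical k K C) {n : ℕ} {φ : Fin (n + 1) → K}
  (hφ : LinearIndependent k φ) (hspan : Submodule.span k (Set.range φ) = L C)
  (hchar : ringChar k = 0 ∨ 2 * genus k K - 2 < ringChar k)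
include hK hC hφ hspan hchar

theorem ringChar_deg : ringChar k = 0 ∨ (mapDiv k φ).deg < ringChar k := by
  rw [mapDiv_canonical hK hC hφ hspan, deg_canonical hK hC]
  refine hchar.imp_right fun h => ?_
  have := genus_pos_of_basis hK hC hφ hspan
  omega

variable {s : K} {H : K →ₐ[k] PowerSeries K} (hH : LocRes.IsHasseFamily s H) {J : Fin n → ℕ}
  (hJ : IsOrders K (hcol (AlgHom.id k K) H φ) J) {Φ : Place k K → (K →ₐ[k] LaurentSeries k)}
  (hΦ : ∀ P : Place k K, LocRes.IsExpansionAt P.1 (Φ P))
include hH hJ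

theorem orders_canonical : J = fun l : Fin n => (l : ℕ) + 1 := by
  obtain ⟨P⟩ := (IsFF.of_isFunctionField hK).nonempty_place
  exact isOrders_unique hJ
    (classical_of_char hK hφ (ringChar_deg hK hC hφ hspan hchar) le_rfl P (Or.inl ⟨rfl, rfl⟩) hH)

include hΦ

/-- Upper bound for the weights; attained exactly at the places with `Hyp`. -/
theorem weight_spec (P : Place k K) :
    2 * wDiv (AlgHom.id k K) H Φ s φ J P ≤ (n : ℤ) * (n + 1) ∧
    (Hyp P → 2 * wDiv (AlgHom.id k K) H Φ s φ J P = (n : ℤ) * (n + 1)) ∧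
    (0 < n → ¬ Hyp P → 2 * wDiv (AlgHom.id k K) H Φ s φ J P < (n : ℤ) * (n + 1)) := by
  classical
  have hG := good_of_algClosed hK
  obtain ⟨y, t, Ht, hy, ht, hHt, heff, hnorm, hψ, hJt, hw⟩ := exists_normalized hK hφ hH hJ hΦ P
  have hJeq := orders_canonical hK hC hφ hspan hchar hH hJ
  obtain ⟨J', hJ'⟩ := exists_orders_at hK ht hHt hψ heff hnorm
  have hgap : ∀ j, 1 ≤ j → (j ∈ Set.range J' ↔ Gap P (j + 1)) := fun j hj => by
    rw [hJ'.2 j]
    exact isJump_canonical_iff hK hC hφ hspan ht hHt hy heff hnorm hj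
  have hpos := orders_at_pos hK ht hHt hnorm hJ'
  have hup : ∀ l : Fin n, J' l ≤ 2 * ((l : ℕ) + 1) := by
    intro l
    have hg : Gap P (J' l + 1) := (hgap _ (hpos l)).1 ⟨l, rfl⟩
    have h1 := sub_one_le_two_mul_gaps (P := P) (n := J' l + 1) (by omega) hg
    rw [Nat.add_sub_cancel] at h1
    have hsub : gapSet P (J' l) ⊆
        ↑(insert 1 ((Finset.Iio l).image fun i => J' i + 1)) := by
      rintro m ⟨hm1, hm2, hm⟩
      rw [Finset.coe_insert, Finset.coe_image]
      rcases eq_or_lt_of_le hm1 with h | h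
      · exact Or.inl h.symm
      · obtain ⟨i, hi⟩ := (hgap (m - 1) (by omega)).2 (by rwa [Nat.sub_add_cancel hm1])
        refine Or.inr ⟨i, ?_, show J' i + 1 = m by omega⟩
        rw [Finset.coe_Iio, Set.mem_Iio]
        exact hJ'.1.lt_iff_lt.1 (by omega)
    have h2 := Set.ncard_le_ncard hsub (Finset.finite_toSet _)
    rw [Set.ncard_coe_finset] at h2
    have h3 : ((Finset.Iio l).image fun i => J' i + 1).card ≤ (l : ℕ) :=
      Finset.card_image_le.trans (Fin.card_Iio l).le
    have h4 := Finset.card_insert_le 1 ((Finset.Iio l).image fun i => J' i + 1)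
    omega
  have hdet : (binomMat k J' J).det ≠ 0 := by
    obtain ⟨N, hN, hNdeg⟩ : ∃ N : ℕ, (∀ r, J' r ≤ N) ∧ (ringChar k = 0 ∨ N < ringChar k) := by
      refine ⟨Finset.univ.sup J', fun r => Finset.le_sup (Finset.mem_univ r), ?_⟩
      refine (ringChar_deg hK hC hφ hspan hchar).imp_right fun h => ?_
      refine (Finset.sup_lt_iff (by have := deg_canonical hK hC
                                    have := mapDiv_canonical hK hC hφ hspan
                                    have := genus_pos_of_basis hK hC hφ hspan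
                                    rw [mapDiv_canonical hK hC hφ hspan] at h
                                    simp only [bot_eq_zero]
                                    omega)).2 fun r _ => ?_
      have := orders_at_le_deg hK ht hHt hψ heff hnorm hJ' r
      have e : (mapDiv k (y • φ)).deg = (mapDiv k φ).deg := by
        have e : mapDiv k (y • φ) = mapDiv k φ - FunFld.div k y := by
          ext Q
          rw [mapDiv_smul (IsFF.of_isFunctionField hK) φ hφ.ne_zero hy, Finsupp.sub_apply,
            Groth.Funfld2.div_apply hG]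
        rw [e, Groth.Funfld2.deg_sub, hG.deg_div y hy, sub_zero]
      omega
    rw [hJeq]
    exact det_binomMat_classical hJ'.1 le_rfl (fun r => hpos r) hN (cast_inj_of_ringChar hNdeg)
  have hwval : wDiv (AlgHom.id k K) H Φ s φ J P = ∑ l, ((J' l : ℤ) - J l) := by
    rw [hw, wDiv_apply_normalized hG isFixedPt_id hψ heff hnorm ht Ht J hΦ]
    exact ((sum_le_ord_det hK ht hHt hψ heff hnorm hJ' isFixedPt_id hJt).2
      (Or.inl (orders_id_pos hHt hJt))).2 hdet
  have htri := two_mul_sum_succ n
  have hterm : ∀ l : Fin n, (J' l : ℤ) - J l ≤ ((l : ℕ) + 1 : ℤ) := fun l => by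
    have := hup l
    rw [hJeq]
    push_cast
    omega
  rw [hwval]
  refine ⟨?_, fun hhyp => ?_, fun hn hhyp => ?_⟩
  · rw [← htri]
    exact mul_le_mul_of_nonneg_left (Finset.sum_le_sum fun l _ => hterm l) (by norm_num)
  · rw [← htri]
    congr 1
    have hodd : ∀ l, ∃ i, J' l = 2 * i ∧ 1 ≤ i := fun l => by
      have hg : Gap P (J' l + 1) := (hgap _ (hpos l)).1 ⟨l, rfl⟩
      rcases Nat.even_or_odd' (J' l + 1) with ⟨i, hi | hi⟩
      · exact absurd (hi ▸ hg) (not_gap_even hhyp i (by omega))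
      · exact ⟨i, by omega, by have := hpos l; omega⟩
    have hlow : ∀ (m : ℕ) (hm : m < n), 2 * (m + 1) ≤ J' ⟨m, hm⟩ := by
      intro m hm
      induction m with
      | zero => obtain ⟨i, hi, hi1⟩ := hodd ⟨0, hm⟩; omega
      | succ m ih =>
        obtain ⟨i, hi, -⟩ := hodd ⟨m + 1, hm⟩
        obtain ⟨i', hi', -⟩ := hodd ⟨m, by omega⟩
        have := ih (by omega)
        have := hJ'.1 (show (⟨m, by omega⟩ : Fin n) < ⟨m + 1, hm⟩ from Fin.lt_def.2 (Nat.lt_succ_self m))
        omega
    refine Finset.sum_congr rfl fun l _ => le_antisymm (hterm l) ?_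
    have := hlow l.1 l.2
    rw [Fin.eta] at this
    rw [hJeq]
    simp only
    push_cast
    omega
  · rw [← htri]
    refine mul_lt_mul_of_pos_left (Finset.sum_lt_sum (fun l _ => hterm l)
      ⟨⟨0, hn⟩, Finset.mem_univ _, ?_⟩) (by norm_num)
    have hg2 : Gap P (1 + 1) := by
      rw [Gap]; norm_num
      exact not_not.1 hhyp
    obtain ⟨l, hl⟩ := (hgap 1 le_rfl).2 hg2
    have := hJ'.1.monotone (show (⟨0, hn⟩ : Fin n) ≤ l from Fin.le_def.2 (Nat.zero_le _))
    have := hpos ⟨0, hn⟩
    rw [hJeq]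
    simp only
    push_cast
    omega

/-- Twice the degree of `W`, written in `n = g - 1`. -/
theorem sum_weights :
    (wDiv (AlgHom.id k K) H Φ s φ J).deg = (n : ℤ) * (n + 1) * (n + 2) := by
  have hJeq := orders_canonical hK hC hφ hspan hchar hH hJ
  have hgn := genus_pos_of_basis hK hC hφ hspan
  rw [deg_wDiv hK hH hΦ, mapDiv_canonical hK hC hφ hspan, deg_canonical hK hC, hgn, hJeq]
  have hfr : Module.finrank (AlgHom.id k K).fieldRange K = 1 := by
    rw [show (AlgHom.id k K).fieldRange = ⊤ from SetLike.ext fun z =>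
      ⟨fun _ => IntermediateField.mem_top, fun _ => ⟨z, rfl⟩⟩]
    exact IntermediateField.finrank_top
  have htri := two_mul_sum_succ n
  rw [hfr]
  push_cast at *
  linear_combination (n : ℤ) * htri

end Weight

/-! ### Fixed places of automorphisms -/

omit [IsAlgClosed k] in
theorem isFixedPt_of_comapPlace_eq {σ : K ≃ₐ[k] K} {P : Place k K} (h : comapPlace σ P = P) :
    IsFixedPt (σ : K →ₐ[k] K) P := fun z hz => by
  have : P.1 (σ z) = P.1 z := by rw [← comapPlace_apply σ P z, h]
  change P.1 (σ z) < 1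
  rwa [this]

include hK

theorem comapPlace_eq_of_isFixedPt {σ : K ≃ₐ[k] K} {P : Place k K}
    (h : IsFixedPt (σ : K →ₐ[k] K) P) : comapPlace σ P = P :=
  (Place.eq_of_forall_le_one P _ fun z hz =>
    val_map_le_one ((good_of_algClosed hK).deg_one P) h hz).symm

theorem exists_place_not_fixed {σ : K ≃ₐ[k] K} (hσ : σ ≠ AlgEquiv.refl) :
    ∃ P : Place k K, comapPlace σ P ≠ P := by
  by_contra! hall
  refine hσ (AlgEquiv.ext fun f => ?_)
  have hF := IsFF.of_isFunctionField hK
  have hquot : ∀ f : K, f ≠ 0 → ∃ c : k, σ f = c • f := by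
    intro f hf
    have hmem : σ f / f ∈ L (0 : Divisor k K) := fun P => by
      have h1 : P.1 (σ f) = P.1 f := by rw [← comapPlace_apply σ P f, hall P]
      rw [map_div₀, h1, div_self ((Valuation.ne_zero_iff _).2 hf)]
      simp
    rw [L_zero_eq hK, Submodule.mem_one] at hmem
    obtain ⟨c, hc⟩ := hmem
    exact ⟨c, by rw [Algebra.smul_def, hc, div_mul_cancel₀ _ hf]⟩
  by_cases hfc : f ∈ Set.range (algebraMap k K)
  · obtain ⟨c, rfl⟩ := hfc
    simp
  have hf0 : f ≠ 0 := fun e => hfc ⟨0, by rw [map_zero, e]⟩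
  have hf1 : f + 1 ≠ 0 := fun e => hfc ⟨-1, by rw [map_neg, map_one]; linear_combination -e⟩
  obtain ⟨c, hc⟩ := hquot f hf0
  obtain ⟨c', hc'⟩ := hquot _ hf1
  rw [map_add, map_one, hc, Algebra.smul_def, Algebra.smul_def] at hc'
  by_cases hcc : c = c'
  · subst hcc
    have h1 : algebraMap k K c = 1 := by linear_combination -hc'
    change σ f = f
    rw [hc, Algebra.smul_def, h1, one_mul]
  · refine absurd ⟨(c' - 1) / (c - c'), ?_⟩ hfc
    have hne : algebraMap k K (c - c') ≠ 0 := (map_ne_zero _).2 (sub_ne_zero.2 hcc)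
    rw [map_div₀, div_eq_iff hne, map_sub, map_sub, map_one]
    linear_combination -hc'

/-- A nontrivial automorphism has at most `2g + 2` fixed places. -/
theorem ncard_fixed_le {σ : K ≃ₐ[k] K} (hσ : σ ≠ AlgEquiv.refl) :
    {P : Place k K | IsFixedPt (σ : K →ₐ[k] K) P}.Finite ∧
    Set.ncard {P : Place k K | IsFixedPt (σ : K →ₐ[k] K) P} ≤ 2 * genus k K + 2 := by
  classical
  have hG := good_of_algClosed hK
  have hF := IsFF.of_isFunctionField hK
  obtain ⟨P, hP⟩ := exists_place_not_fixed hK hσ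
  set R : Place k K := comapPlace σ.symm P with hR
  set D := Finsupp.single P ((genus k K + 1 : ℕ) : ℤ) with hD
  have hell : 2 ≤ ell D := by
    have h1 := hF.delta_le_genus D
    rw [delta, hD, deg_single, hG.deg_one] at h1
    rw [hD]
    omega
  obtain ⟨f, hf, hfc⟩ := exists_nonconst_mem hK hell
  set h := σ f - f with hh
  have hfP : 1 < P.1 f := by
    by_contra hle
    refine hfc ?_
    have hf0 : f ∈ L (0 : Divisor k K) := fun Q => by
      rcases eq_or_ne Q P with rfl | hQ
      · simpa using not_lt.1 hle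
      · have := hf Q
        rwa [hD, Finsupp.single_eq_of_ne hQ] at this
    rw [L_zero_eq hK, Submodule.mem_one] at hf0
    exact hf0
  have hint : ∀ Q : Place k K, Q ≠ P → Q.1 f ≤ 1 := fun Q hQ => by
    have := hf Q
    rwa [hD, Finsupp.single_eq_of_ne hQ, WithZero.exp_zero] at this
  have hσint : ∀ Q : Place k K, Q ≠ R → Q.1 (σ f) ≤ 1 := fun Q hQ => by
    rw [← comapPlace_apply σ Q f]
    refine hint _ fun e => hQ (Subtype.ext (Valuation.ext fun z => ?_))
    rw [hR, ← e, comapPlace_apply, comapPlace_apply, AlgEquiv.apply_symm_apply]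
  have hPR : P ≠ R := fun e => hP (Subtype.ext (Valuation.ext fun z => by
    have := congrArg (fun S : Place k K => S.1 (σ z)) e
    simp only [hR, comapPlace_apply, AlgEquiv.symm_apply_apply] at this
    rw [comapPlace_apply]; exact this))
  have hP' : P.1 h = P.1 f := by
    rw [hh, Valuation.map_sub_eq_of_lt_right P.1 ((hσint P hPR).trans_lt hfP)]
  have hne : h ≠ 0 := fun e => by
    rw [e, map_zero] at hP'
    rw [← hP'] at hfP
    exact not_lt_zero' hfP
  set E := D + Finsupp.single R ((genus k K + 1 : ℕ) : ℤ) with hE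
  have hmem : h ∈ L E := fun Q => by
    rw [hE, Finsupp.add_apply, hh]
    refine (Q.1.map_sub _ _).trans (max_le ?_ ?_)
    · rcases eq_or_ne Q R with e | hQ
      · have h1 := hf (comapPlace σ Q)
        rw [comapPlace_apply] at h1
        refine h1.trans (WithZero.exp_le_exp.2 ?_)
        rw [e, Finsupp.single_eq_same, hD, Finsupp.single_eq_of_ne (Ne.symm hPR)]
        rw [Finsupp.single_apply]
        split_ifs <;> omega
      · refine (hσint Q hQ).trans ?_
        rw [← WithZero.exp_zero, WithZero.exp_le_exp, Finsupp.single_eq_of_ne hQ, add_zero, hD,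
          Finsupp.single_apply]
        split_ifs <;> omega
    · refine (hf Q).trans (WithZero.exp_le_exp.2 (le_add_of_nonneg_right ?_))
      rw [Finsupp.single_apply]
      split_ifs <;> omega
  have hfix : ∀ Q : Place k K, IsFixedPt (σ : K →ₐ[k] K) Q → 1 ≤ (FunFld.div k h + E) Q := by
    intro Q hQ
    have hQP : Q ≠ P := fun e => hP (e ▸ comapPlace_eq_of_isFixedPt hK hQ)
    obtain ⟨c, hc⟩ := Groth.Funfld2.exists_const_residue (hG.deg_one Q) (hint Q hQP)
    have h2 := hQ _ hc
    rw [map_sub, AlgHom.commutes] at h2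
    have h3 : Q.1 h < 1 := by
      rw [hh, show σ f - f = (σ f - algebraMap k K c) - (f - algebraMap k K c) by ring]
      exact (Q.1.map_sub _ _).trans_lt (max_lt h2 hc)
    rw [Groth.Funfld2.val_lt_one_iff_ord Q hne] at h3
    rw [Finsupp.add_apply, Groth.Funfld2.div_apply hG, hE, Finsupp.add_apply, hD, Finsupp.single_apply,
      Finsupp.single_apply]
    split_ifs <;> omega
  have hnn := Groth.Funfld2.div_add_nonneg hG hmem hne
  set E' := FunFld.div k h + E with hE'
  have hfin : {P : Place k K | IsFixedPt (σ : K →ₐ[k] K) P}.Finite :=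
    E'.support.finite_toSet.subset fun Q hQ => by
      have := hfix Q hQ
      rw [Finset.mem_coe, Finsupp.mem_support_iff]
      omega
  refine ⟨hfin, ?_⟩
  rw [Set.ncard_eq_toFinset_card _ hfin]
  have hdeg : E'.deg = 2 * (genus k K : ℤ) + 2 := by
    rw [hE', Groth.Funfld2.deg_add, hG.deg_div h hne, hE, hD, Groth.Funfld2.deg_add,
      Groth.Funfld2.deg_single, Groth.Funfld2.deg_single, hG.deg_one, hG.deg_one]
    push_cast; ring
  have h4 : (hfin.toFinset.card : ℤ) ≤ E'.deg := by
    calc (hfin.toFinset.card : ℤ) = ∑ _Q ∈ hfin.toFinset, (1 : ℤ) := by simp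
      _ ≤ ∑ Q ∈ hfin.toFinset, E' Q := Finset.sum_le_sum fun Q hQ => hfix Q (hfin.mem_toFinset.1 hQ)
      _ ≤ ∑ Q ∈ E'.support ∪ hfin.toFinset, E' Q :=
          Finset.sum_le_sum_of_subset_of_nonneg Finset.subset_union_right fun Q _ _ => hnn Q
      _ = E'.deg := by
          rw [Divisor.deg, Finsupp.sum_of_support_subset _
            (Finset.subset_union_left (s₂ := hfin.toFinset)) _ (by simp)]
          simp [hG.deg_one]
  omega

/-! ### A double pole -/

theorem exists_double_pole (hg : 0 < genus k K) {P : Place k K} (h : Hyp P) :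
    ∃ x : K, P.1 x = WithZero.exp (2 : ℤ) ∧ (∀ Q : Place k K, Q ≠ P → Q.1 x ≤ 1) ∧
      Module.finrank (IntermediateField.adjoin k ({x} : Set K)) K = 2 ∧
      ∀ u ∈ L (Finsupp.single P (2 : ℤ)), ∃ a b : k, u = algebraMap k K a * x + algebraMap k K b := by
  have hG := good_of_algClosed hK
  have hF := IsFF.of_isFunctionField hK
  have hdeg : P.deg = 1 := hG.deg_one P
  obtain ⟨x, hx, hxv⟩ := exists_of_not_gap (P := P) (m := 2) (by simpa [Hyp] using h)
  push_cast at hx hxv
  have hint : ∀ Q : Place k K, Q ≠ P → Q.1 x ≤ 1 := fun Q hQ => by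
    have := hx Q
    rwa [Finsupp.single_eq_of_ne hQ, WithZero.exp_zero] at this
  have hx0 : x ≠ 0 := ne_zero_of_val_eq hxv
  have hxc : x ∉ Set.range (algebraMap k K) := by
    rintro ⟨c, rfl⟩
    have h1 := P.2.1 c
    rw [hxv, ← WithZero.exp_zero, WithZero.exp_le_exp] at h1
    omega
  refine ⟨x, hxv, hint, ?_, fun u hu => ?_⟩
  · have h1 := hF.deg_poleDiv_eq (transcendental_of_notMem hK hxc)
    have e : zeroDiv k x⁻¹ = Finsupp.single P 2 := by
      classical
      ext Q
      rw [hF.zeroDiv_apply, ord_inv, Finsupp.single_apply]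
      split_ifs with e
      · subst e; rw [ord_eq_of_val_eq P hxv]; norm_num
      · have := (Groth.FunFld1.val_le_one_iff Q x).1 (hint Q (Ne.symm e))
        omega
    rw [e, Groth.Funfld2.deg_single, hdeg] at h1
    omega
  · have huv : P.1 (u / x) ≤ 1 := by
      rw [map_div₀, hxv]
      refine div_le_one_of_le₀ ?_ WithZero.exp_pos.le
      simpa using hu P
    obtain ⟨a, ha⟩ := Groth.Funfld2.exists_const_residue hdeg huv
    have hmem : u - algebraMap k K a * x ∈ L (Finsupp.single P (1 : ℤ)) := by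
      intro Q
      rcases eq_or_ne Q P with rfl | hQ
      · rw [Finsupp.single_eq_same, show u - algebraMap k K a * x = (u / x - algebraMap k K a) * x by
          field_simp, map_mul, hxv]
        refine (mul_le_mul' (Groth.FunFld1.lt_one_iff_le_exp_neg_one.1 ha) le_rfl).trans_eq ?_
        rw [← WithZero.exp_add]
        norm_num
      · rw [Finsupp.single_eq_of_ne hQ, WithZero.exp_zero]
        refine (Q.1.map_sub _ _).trans (max_le ?_ ?_)
        · have := hu Q
          rwa [Finsupp.single_eq_of_ne hQ, WithZero.exp_zero] at this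
        · rw [map_mul]; exact mul_le_one' (Q.2.1 a) (hint Q hQ)
    have hone : L (Finsupp.single P (1 : ℤ)) = L (0 : Divisor k K) := by
      have := hF.finiteDimensional_L (Finsupp.single P (1 : ℤ))
      refine (Submodule.eq_of_le_of_finrank_le (L_mono (Finsupp.single_nonneg.2 zero_le_one)) ?_).symm
      change ell (Finsupp.single P (1 : ℤ)) ≤ ell (0 : Divisor k K)
      rw [ell_zero_eq hK, ell_single_one_eq_one hK hg hdeg]
    rw [hone, L_zero_eq hK, Submodule.mem_one] at hmem
    obtain ⟨b, hb⟩ := hmem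
    exact ⟨a, b, by linear_combination -hb⟩

omit hK [IsAlgClosed k] in
/-- The order of `df` at a place where the order of `f` is nonzero in `k`. -/
theorem ordDiff_one_eq {w : Valuation K (WithZero (Multiplicative ℤ))} {Φ : K →ₐ[k] k⸨X⸩}
    (hΦ : LocRes.IsExpansionAt w Φ) {f : K} {m : ℤ} (hf : w f = WithZero.exp (-m))
    (hm : (m : k) ≠ 0) :
    LocRes.D k (Φ f) ≠ 0 ∧ LocRes.ordDiff Φ 1 f = m - 1 := by
  have hv : Valued.v (Φ f) = WithZero.exp (-m) := (hΦ.1 f).trans hf
  have hlow := (LaurentSeries.valuation_le_iff_coeff_lt_eq_zero k).1 hv.le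
  have hcm : (Φ f).coeff m ≠ 0 := by
    intro h0
    have h1 : Valued.v (Φ f) ≤ WithZero.exp (-(m + 1)) :=
      (LaurentSeries.valuation_le_iff_coeff_lt_eq_zero k).2 fun i hi => by
        rcases lt_or_eq_of_le (show i ≤ m by omega) with h | h
        · exact hlow i h
        · rw [h, h0]
    rw [hv, WithZero.exp_le_exp] at h1
    omega
  have hDm : (LocRes.D k (Φ f)).coeff (m - 1) ≠ 0 := by
    rw [LocRes.D_coeff, show m - 1 + 1 = m by ring, zsmul_eq_mul]
    exact mul_ne_zero hm hcm
  have hne : LocRes.D k (Φ f) ≠ 0 := fun h => hDm (by rw [h]; rfl)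
  have hDv : Valued.v (LocRes.D k (Φ f)) = WithZero.exp (-(m - 1)) := by
    refine le_antisymm ((LaurentSeries.valuation_le_iff_coeff_lt_eq_zero k).2 fun i hi => ?_) ?_
    · rw [LocRes.D_coeff, hlow (i + 1) (by omega), smul_zero]
    · obtain ⟨z, hz⟩ : ∃ z : ℤ, Valued.v (LocRes.D k (Φ f)) = WithZero.exp z :=
        ⟨_, (WithZero.exp_log
          ((Valuation.ne_zero_iff (Valued.v : Valuation k⸨X⸩ (WithZero (Multiplicative ℤ)))).2 hne)).symm⟩
      rw [hz, WithZero.exp_le_exp]
      by_contra hlt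
      have hle : Valued.v (LocRes.D k (Φ f)) ≤ WithZero.exp (-m) := by
        rw [hz, WithZero.exp_le_exp]
        omega
      exact hDm ((LaurentSeries.valuation_le_iff_coeff_lt_eq_zero k).1 hle (m - 1) (by omega))
  refine ⟨hne, ?_⟩
  rw [LocRes.ordDiff, LocRes.vDiff, map_one, one_mul, hDv, WithZero.log_exp, neg_neg]

omit hK [IsAlgClosed k] in
theorem ordDiff_one_sub_const {Φ : K →ₐ[k] k⸨X⸩} (f : K) (c : k) :
    LocRes.ordDiff Φ 1 (f - algebraMap k K c) = LocRes.ordDiff Φ 1 f := by
  rw [LocRes.ordDiff, LocRes.ordDiff, LocRes.vDiff, LocRes.vDiff, map_sub, map_sub,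
    LocRes.map_algebraMap, LocRes.D_apply, LocRes.D_apply, LocRes.derivative_C, sub_zero]

theorem divDiff_eq_ordDiff {Φ : Place k K → (K →ₐ[k] LaurentSeries k)}
    (hΦ : ∀ P : Place k K, LocRes.IsExpansionAt P.1 (Φ P)) {x : K} {H : K →ₐ[k] PowerSeries K}
    (hH : LocRes.IsHasseFamily x H) (P : Place k K) :
    divDiff Φ 1 x P = LocRes.ordDiff (Φ P) 1 x := by
  obtain ⟨u, Hu, hu, hHu⟩ := exists_parameter hK P
  rw [divDiff_apply hK hΦ hH hu hHu, ordDiff_eq_ord_hasseD hK (hΦ P) hu hHu x]

/-- The ramification of a double cover of the line: `2g + 1` places besides the pole, all with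
`Hyp`, each the only zero of `x - c`. -/
theorem ramification {Φ : Place k K → (K →ₐ[k] LaurentSeries k)}
    (hΦ : ∀ P : Place k K, LocRes.IsExpansionAt P.1 (Φ P)) (hg : 0 < genus k K) (h2 : (2 : k) ≠ 0)
    {P0 : Place k K} {x : K} (hxv : P0.1 x = WithZero.exp (2 : ℤ))
    (hint : ∀ Q : Place k K, Q ≠ P0 → Q.1 x ≤ 1) :
    ∃ R : Finset (Place k K), P0 ∉ R ∧ R.card = 2 * genus k K + 1 ∧
      ∀ P ∈ R, Hyp P ∧ ∃ c : k, P.1 (x - algebraMap k K c) < 1 ∧
        ∀ Q : Place k K, Q.1 (x - algebraMap k K c) < 1 → Q = P := by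
  classical
  have hG := good_of_algClosed hK
  have hF := IsFF.of_isFunctionField hK
  have hx2 : P0.1 x = WithZero.exp (-(-2) : ℤ) := by rw [neg_neg]; exact hxv
  have hne0 := ordDiff_one_eq (hΦ P0) hx2 (by push_cast; exact neg_ne_zero.2 h2)
  have hxc : x ∉ Set.range (algebraMap k K) := by
    rintro ⟨c, rfl⟩
    have h1 := P0.2.1 c
    rw [hxv, ← WithZero.exp_zero, WithZero.exp_le_exp] at h1
    omega
  have htr := transcendental_of_notMem hK hxc
  have hsep : Algebra.IsSeparable (IntermediateField.adjoin k ({x} : Set K)) K := by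
    let Φ0 := Φ P0
    let _ := Φ0.toRingHom.toAlgebra
    have htower : IsScalarTower k K k⸨X⸩ := ⟨fun c a b => by
      change Φ0 (c • a) * b = c • (Φ0 a * b)
      rw [Algebra.smul_def, map_mul, LocRes.map_algebraMap, Algebra.algebraMap_self,
        RingHom.id_apply, mul_assoc, HahnSeries.C_mul_eq_smul]⟩
    exact isSeparable_of_derivation hF (LocRes.dExp Φ0) hne0.1 htr
  obtain ⟨H, hH⟩ := exists_isHasseFamily hF htr
  have hval : ∀ c : k, P0.1 (x - algebraMap k K c) = WithZero.exp (2 : ℤ) := by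
    intro c
    rw [Valuation.map_sub_eq_of_lt_left P0.1 ((P0.2.1 c).trans_lt ?_), hxv]
    rw [hxv, ← WithZero.exp_zero, WithZero.exp_lt_exp]
    norm_num
  have hnec : ∀ c : k, x - algebraMap k K c ≠ 0 := fun c => ne_zero_of_val_eq (hval c)
  -- the zero divisor of `x - c`
  set Z : k → Divisor k K := fun c =>
    FunFld.div k (x - algebraMap k K c) + Finsupp.single P0 2 with hZ
  have hZdeg : ∀ c, (Z c).deg = 2 := fun c => by
    rw [hZ, Groth.Funfld2.deg_add, hG.deg_div _ (hnec c), Groth.Funfld2.deg_single, hG.deg_one]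
    norm_num
  have hZnn : ∀ c, 0 ≤ Z c := fun c => Groth.Funfld2.div_add_nonneg hG (fun Q => by
    rcases eq_or_ne Q P0 with e | hQ
    · rw [e, Finsupp.single_eq_same, hval c]
    · rw [Finsupp.single_eq_of_ne hQ, WithZero.exp_zero]
      exact (Q.1.map_sub _ _).trans (max_le (hint Q hQ) (Q.2.1 c))) (hnec c)
  have hZord : ∀ c, ∀ Q : Place k K, Q ≠ P0 → Z c Q = Q.ord (x - algebraMap k K c) := fun c Q hQ => by
    rw [hZ, Finsupp.add_apply, Groth.Funfld2.div_apply hG, Finsupp.single_eq_of_ne hQ, add_zero]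
  have hpair : ∀ c, ∀ Q Q' : Place k K, Q ≠ Q' → Z c Q + Z c Q' ≤ 2 := fun c Q Q' hQQ' => by
    have h1 : 0 ≤ Z c - Finsupp.single Q (Z c Q) - Finsupp.single Q' (Z c Q') := fun R => by
      rw [Finsupp.sub_apply, Finsupp.sub_apply, Finsupp.single_apply, Finsupp.single_apply,
        Finsupp.zero_apply]
      have := hZnn c R
      rw [Finsupp.zero_apply] at this
      split_ifs with h h' h' <;> subst_vars <;> first | omega | exact absurd rfl hQQ'
    have h2 := Groth.Funfld2.deg_nonneg h1
    rw [Groth.Funfld2.deg_sub, Groth.Funfld2.deg_sub, hZdeg, Groth.Funfld2.deg_single,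
      Groth.Funfld2.deg_single, hG.deg_one, hG.deg_one] at h2
    omega
  set Wd := divDiff Φ 1 x with hWd
  have hW0 : Wd P0 = -3 := by
    rw [hWd, divDiff_eq_ordDiff hK hΦ hH, hne0.2]
    norm_num
  have hother : ∀ P : Place k K, P ≠ P0 → ∃ c : k, P.1 (x - algebraMap k K c) < 1 ∧
      (Wd P = 0 ∨ (Wd P = 1 ∧ P.ord (x - algebraMap k K c) = 2 ∧
        ∀ Q : Place k K, Q.1 (x - algebraMap k K c) < 1 → Q = P)) := by
    intro P hP
    obtain ⟨c, hc⟩ := Groth.Funfld2.exists_const_residue (hG.deg_one P) (hint P hP)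
    refine ⟨c, hc, ?_⟩
    have h1 := (Groth.Funfld2.val_lt_one_iff_ord P (hnec c)).1 hc
    have hle : P.ord (x - algebraMap k K c) ≤ 2 := by
      have := hpair c P P0 hP
      have h3 := hZnn c P0
      rw [Finsupp.zero_apply] at h3
      rw [hZord c P hP] at this
      omega
    have hv := Groth.Funfld2.val_eq_exp_ord P (hnec c)
    rw [hWd, divDiff_eq_ordDiff hK hΦ hH, ← ordDiff_one_sub_const x c]
    rcases (show P.ord (x - algebraMap k K c) = 1 ∨ P.ord (x - algebraMap k K c) = 2 by omega)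
      with he | he <;> rw [he] at hv
    · left
      rw [(ordDiff_one_eq (hΦ P) hv (by simp)).2]
      norm_num
    · refine Or.inr ⟨by rw [(ordDiff_one_eq (hΦ P) hv (by simpa using h2)).2]; norm_num, he,
        fun Q hQ => ?_⟩
      by_contra hQP
      have hQ0 : Q ≠ P0 := fun e => by
        rw [e, hval c, ← WithZero.exp_zero, WithZero.exp_lt_exp] at hQ
        norm_num at hQ
      have h4 := hpair c P Q (Ne.symm hQP)
      rw [hZord c P hP, hZord c Q hQ0] at h4
      have := (Groth.Funfld2.val_lt_one_iff_ord Q (hnec c)).1 hQ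
      omega
  refine ⟨Wd.support.erase P0, Finset.notMem_erase _ _, ?_, fun P hP => ?_⟩
  · have hdeg := deg_divDiff hK hH hΦ
    rw [← hWd, Divisor.deg, Finsupp.sum, ← Finset.add_sum_erase _ _
      (show P0 ∈ Wd.support by rw [Finsupp.mem_support_iff, hW0]; norm_num)] at hdeg
    have hsum : ∀ P ∈ Wd.support.erase P0, Wd P * (P.deg : ℤ) = 1 := fun P hP => by
      rw [Finset.mem_erase, Finsupp.mem_support_iff] at hP
      obtain ⟨c, -, h | ⟨h, -⟩⟩ := hother P hP.1
      · exact absurd h hP.2
      · rw [h, hG.deg_one]; norm_num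
    rw [Finset.sum_congr rfl hsum, Finset.sum_const, hW0, hG.deg_one] at hdeg
    simp only [nsmul_eq_mul, mul_one, Nat.cast_one] at hdeg
    omega
  · rw [Finset.mem_erase, Finsupp.mem_support_iff] at hP
    obtain ⟨c, hc, h | ⟨-, he, huniq⟩⟩ := hother P hP.1
    · exact absurd h hP.2
    refine ⟨?_, c, hc, huniq⟩
    intro heq
    set u := (x - algebraMap k K c)⁻¹ with hu
    have hu0 : u ≠ 0 := inv_ne_zero (hnec c)
    have hord : ∀ Q : Place k K, Q.ord u = -Q.ord (x - algebraMap k K c) := fun Q => by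
      rw [hu, ord_inv]
    have hmem : u ∈ L (Finsupp.single P (2 : ℤ)) := by
      rw [Groth.Funfld2.mem_L_iff_ord hu0]
      intro Q
      rw [hord]
      rcases eq_or_ne Q P with e | hQ
      · rw [e, Finsupp.single_eq_same, he]; norm_num
      · rw [Finsupp.single_eq_of_ne hQ]
        by_contra hlt
        exact hQ (huniq Q ((Groth.Funfld2.val_lt_one_iff_ord Q (hnec c)).2 (by omega)))
    rw [heq, Groth.Funfld2.mem_L_iff_ord hu0] at hmem
    have := hmem P
    rw [hord, he, Finsupp.single_eq_same] at this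
    omega

end Groth.Funfld2.Hasse
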