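import Groth.Agent.Funfld2.Hasse.Invariance

/-! Existence of the order sequence at a place, and classical order sequences. -/

open FunFld
open scoped LaurentSeries WithZero

namespace Groth.Funfld2.Hasse

variable {k K : Type*} [Field k] [Field K] [Algebra k K] {P : Place k K} {t : K} {n : ℕ}

theorem exists_coef_orders (hdeg : P.deg = 1) (ht : P.1 t = WithZero.exp (-1))
    {φ : Fin (n + 1) → K} (hφ : LinearIndependent k φ)
    (heff : (1 : K) ∈ Submodule.span k (Set.range φ)) (hnorm : ∀ i, P.1 (φ i) ≤ 1) :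
    ∃ J : Fin n → ℕ, IsOrders k (coefCol hdeg ht φ) J := by
  refine exists_isOrders (Module.finrank_fin_fun k) (fun h => ?_) ?_
  · obtain ⟨i, hi⟩ := exists_val_eq_one heff hnorm
    exact ((val_eq_exp_iff_coeff hdeg ht (φ i) 0).1 (by simpa using hi)).2 (congrFun h i)
  · by_contra hne
    obtain ⟨f, hf, hker⟩ := Submodule.exists_le_ker_of_lt_top _ (lt_top_iff_ne_top.2 hne)
    refine hf (LinearMap.pi_ext' fun i => LinearMap.ext_ring ?_)
    have hsum : ∀ v : Fin (n + 1) → k, f v = ∑ i, f (Pi.single i 1) * v i := by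
      intro v
      conv_lhs => rw [← Finset.univ_sum_single v, map_sum]
      refine Finset.sum_congr rfl fun i _ => ?_
      rw [show (Pi.single i (v i) : Fin (n + 1) → k) = v i • Pi.single i 1 by
        rw [← Pi.single_smul, smul_eq_mul, mul_one], map_smul, smul_eq_mul, mul_comm]
    have hzero : ∑ l, f (Pi.single l 1) • φ l = 0 := by
      refine (map_eq_zero (expansion hdeg ht)).1 ?_
      ext m
      rw [coeff_sum_smul, HahnSeries.coeff_zero]
      rcases lt_or_ge m 0 with h | h
      · exact Finset.sum_eq_zero fun l _ => by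
          rw [(val_le_one_iff_coeff hdeg ht _).1 (hnorm l) m h, mul_zero]
      · obtain ⟨m, rfl⟩ := Int.eq_ofNat_of_zero_le h
        have := hker (Submodule.subset_span ⟨m + 1, rfl⟩)
        rw [LinearMap.mem_ker, hsum, coefCol_succ] at this
        exact this
    simpa using Fintype.linearIndependent_iff.1 hφ _ hzero i

variable [IsAlgClosed k]

theorem exists_orders_at (hK : IsFunctionField k K) (ht : P.1 t = WithZero.exp (-1))
    {H : K →ₐ[k] PowerSeries K} (hH : LocRes.IsHasseFamily t H) {φ : Fin (n + 1) → K}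
    (hφ : LinearIndependent k φ) (heff : (1 : K) ∈ Submodule.span k (Set.range φ))
    (hnorm : ∀ i, P.1 (φ i) ≤ 1) :
    ∃ J' : Fin n → ℕ, IsOrders (IsLocalRing.ResidueField P.O) (hcolAt P H φ) J' := by
  have := isSeparable_of_hasse hK hH
  have hdeg : P.deg = 1 := (good_of_algClosed hK).deg_one P
  obtain ⟨J, hJ⟩ := exists_coef_orders hdeg ht hφ heff hnorm
  exact ⟨J, (isOrders_hcolAt_iff hdeg ht hH hnorm J).2 hJ⟩

/-- Classical orders in characteristic zero or large characteristic. -/
theorem classical_of_char (hK : IsFunctionField k K) {φ : Fin (n + 1) → K}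
    (hφ : LinearIndependent k φ) (hchar : ringChar k = 0 ∨ (mapDiv k φ).deg < ringChar k)
    {τ : K →ₐ[k] K} {e : ℕ} (he : e ≤ 1) (P : Place k K)
    (hτ : (e = 1 ∧ τ = AlgHom.id k K) ∨ (e = 0 ∧ IsStrongFixedPt τ P))
    {s : K} {H : K →ₐ[k] PowerSeries K} (hH : LocRes.IsHasseFamily s H) :
    IsOrders K (hcol τ H φ) (fun l : Fin n => (l : ℕ) + e) := by
  obtain ⟨J, hJ, -⟩ := exists_orders hK hH hφ τ
  suffices J = fun l : Fin n => (l : ℕ) + e by rwa [← this]
  obtain ⟨y, hy, heff, hnorm⟩ := exists_normalize P hφ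
  obtain ⟨u, Hu, hu, hHu⟩ := exists_parameter hK P
  have hψ := linearIndependent_smul hφ hy
  obtain ⟨hv, -⟩ := variable_change hK hH τ φ hHu
  obtain ⟨hs, -⟩ := smul_change hHu τ φ hy
  have hJψ := (hs J).2 ((hv J).2 hJ)
  obtain ⟨J', hJ'⟩ := exists_orders_at hK hu hHu hψ heff hnorm
  have hF := Groth.FunFld1.IsFF.of_isFunctionField hK
  have hG := good_of_algClosed hK
  have hdeg : (mapDiv k (y • φ)).deg = (mapDiv k φ).deg := by
    have e : mapDiv k (y • φ) = mapDiv k φ - FunFld.div k y := by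
      ext Q
      rw [mapDiv_smul hF φ hφ.ne_zero hy, Finsupp.sub_apply, div_apply hG]
    rw [e, Groth.Funfld2.deg_sub, hG.deg_div y hy, sub_zero]
  refine funext (classical_orders hK hu hHu hψ heff hnorm hJ' he hτ (fun a b ha hb => ?_) hJψ)
  obtain ⟨la, hla⟩ := ha
  obtain ⟨lb, hlb⟩ := hb
  have h1 := orders_at_le_deg hK hu hHu hψ heff hnorm hJ' la
  have h2 := orders_at_le_deg hK hu hHu hψ heff hnorm hJ' lb
  rw [hdeg] at h1 h2
  rcases hchar with h | h
  · exact cast_inj_of_ringChar (N := max a b) (Or.inl h) a (le_max_left _ _) b (le_max_right _ _)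
  · exact cast_inj_of_ringChar (N := max a b) (Or.inr (by omega)) a (le_max_left _ _) b
      (le_max_right _ _)

end Groth.Funfld2.Hasse
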