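import Groth.Agent.Funfld2.Hasse.WronskAt

/-! The Weierstrass divisor of a normalized map at a fixed place. -/

open FunFld
open scoped LaurentSeries WithZero

namespace Groth.Funfld2.Hasse

variable {k K : Type*} [Field k] [Field K] [Algebra k K]

theorem ordDiff_eq_zero {P : Place k K} {φ : K →ₐ[k] k⸨X⸩}
    (hφ : LocRes.IsExpansionAt P.1 φ) {t : K} (ht : P.1 t = WithZero.exp (-1)) :
    LocRes.ordDiff φ 1 t = 0 := by
  have hv : Valued.v (φ t) = WithZero.exp (-(1 : ℤ)) := (hφ.1 t).trans ht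
  have h0 := (LaurentSeries.valuation_le_iff_coeff_lt_eq_zero k).1 hv.le
  have h1 : (φ t).coeff 1 ≠ 0 := by
    intro h
    have h2 : Valued.v (φ t) ≤ WithZero.exp (-(2 : ℤ)) :=
      (LaurentSeries.valuation_le_iff_coeff_lt_eq_zero k).2 fun i hi => by
        rcases (Int.lt_add_one_iff.1 (show i < 1 + 1 by omega)).lt_or_eq with hl | he
        · exact h0 i hl
        · rw [he, h]
    rw [hv, WithZero.exp_le_exp] at h2
    omega
  have hd : Valued.v (LocRes.D k (φ t)) = (1 : ℤᵐ⁰) := by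
    refine le_antisymm ?_ (not_lt.1 fun hlt => ?_)
    · rw [← WithZero.exp_zero, ← neg_zero]
      refine (LaurentSeries.valuation_le_iff_coeff_lt_eq_zero k).2 fun i hi => ?_
      rw [LocRes.D_coeff, h0 _ (by omega), smul_zero]
    · have hle : Valued.v (LocRes.D k (φ t)) ≤ WithZero.exp (-(1 : ℤ)) :=
        Groth.FunFld1.lt_one_iff_le_exp_neg_one.1 hlt
      have := (LaurentSeries.valuation_le_iff_coeff_lt_eq_zero k).1 hle 0 zero_lt_one
      rw [LocRes.D_coeff, zero_add, one_smul] at this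
      exact h1 this
  rw [LocRes.ordDiff, LocRes.vDiff, map_one, one_mul, hd, WithZero.log_one, neg_zero]

variable {P : Place k K}

theorem mapDiv_apply_eq_zero (hG : Good k K) {n : ℕ} {φ : Fin (n + 1) → K} (hne : ∀ i, φ i ≠ 0)
    (hle : ∀ i, P.1 (φ i) ≤ 1) (hone : ∃ i, P.1 (φ i) = 1) : mapDiv k φ P = 0 := by
  have hfin : (Function.support fun P : Place k K =>
      -Finset.univ.inf' Finset.univ_nonempty (fun i => P.ord (φ i))).Finite := by
    refine (Set.finite_iUnion fun i => hG.finite_ord (φ i)).subset fun Q hQ => ?_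
    rw [Set.mem_iUnion]
    by_contra! hc
    refine hQ (neg_eq_zero.2 ?_)
    obtain ⟨i, -, hi⟩ := Finset.exists_mem_eq_inf' Finset.univ_nonempty (fun i => Q.ord (φ i))
    rw [hi]
    simpa using hc i
  rw [mapDiv, dif_pos hfin]
  change -Finset.univ.inf' Finset.univ_nonempty (fun i => P.ord (φ i)) = 0
  rw [neg_eq_zero]
  obtain ⟨i₀, hi₀⟩ := hone
  refine le_antisymm ((Finset.inf'_le _ (Finset.mem_univ i₀)).trans_eq ?_)
    (Finset.le_inf' _ _ fun i _ => (val_le_one_iff_ord P (hne i)).1 (hle i))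
  exact (Groth.FunFld1.val_eq_one_iff P (hne i₀)).1 hi₀

theorem exists_val_eq_one {n : ℕ} {φ : Fin (n + 1) → K}
    (heff : (1 : K) ∈ Submodule.span k (Set.range φ)) (hnorm : ∀ i, P.1 (φ i) ≤ 1) :
    ∃ i, P.1 (φ i) = 1 := by
  by_contra! hc
  obtain ⟨a, ha⟩ := (Submodule.mem_span_range_iff_exists_fun k).1 heff
  have h : P.1 (∑ i, a i • φ i) < 1 := P.1.map_sum_lt' zero_lt_one fun i _ => by
    rw [Algebra.smul_def, map_mul]
    exact (mul_le_of_le_one_left' (P.2.1 (a i))).trans_lt (lt_of_le_of_ne (hnorm i) (hc i))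
  rw [ha, map_one] at h
  exact lt_irrefl _ h

theorem divDiff_apply_uniformizer {Φ : Place k K → (K →ₐ[k] LaurentSeries k)}
    (hΦ : ∀ P : Place k K, LocRes.IsExpansionAt P.1 (Φ P)) {t : K}
    (ht : P.1 t = WithZero.exp (-1)) : divDiff Φ 1 t P = 0 := by
  rw [divDiff]
  split_ifs
  · exact ordDiff_eq_zero (hΦ P) ht
  · rfl

theorem val_map_eq_one (hdeg : P.deg = 1) {τ : K →ₐ[k] K} (hP : IsFixedPt τ P) {z : K}
    (hz : P.1 z = 1) : P.1 (τ z) = 1 := by
  obtain ⟨c, hc⟩ := exists_const_residue hdeg hz.le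
  have hc0 : c ≠ 0 := by
    rintro rfl
    simp [hz] at hc
  have h := hP _ hc
  rw [map_sub, AlgHom.commutes] at h
  rw [← add_sub_cancel (algebraMap k K c) (τ z),
    Valuation.map_add_eq_of_lt_left P.1 (by rwa [Groth.Funfld2.val_algebraMap P hc0]),
    Groth.Funfld2.val_algebraMap P hc0]

/-- At a fixed place where the map is normalized the coefficient is the order of the Wronskian. -/
theorem wDiv_apply_normalized (hG : Good k K) {τ : K →ₐ[k] K} (hP : IsFixedPt τ P) {n : ℕ}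
    {φ : Fin (n + 1) → K} (hφ : LinearIndependent k φ)
    (heff : (1 : K) ∈ Submodule.span k (Set.range φ)) (hnorm : ∀ i, P.1 (φ i) ≤ 1) {t : K}
    (ht : P.1 t = WithZero.exp (-1)) (H : K →ₐ[k] PowerSeries K) (J : Fin n → ℕ)
    {Φ : Place k K → (K →ₐ[k] LaurentSeries k)}
    (hΦ : ∀ P : Place k K, LocRes.IsExpansionAt P.1 (Φ P)) :
    wDiv τ H Φ t φ J P = P.ord (wrMat τ H φ J).det := by
  obtain ⟨i₀, hi₀⟩ := exists_val_eq_one heff hnorm
  have h1 : mapDiv k φ P = 0 := mapDiv_apply_eq_zero hG hφ.ne_zero hnorm ⟨i₀, hi₀⟩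
  have h2 : mapDiv k (τ ∘ φ) P = 0 := by
    refine mapDiv_apply_eq_zero hG (fun i => ?_) (fun i => val_map_le_one (hG.deg_one P) hP (hnorm i))
      ⟨i₀, val_map_eq_one (hG.deg_one P) hP hi₀⟩
    rw [Function.comp_apply, map_ne_zero]
    exact hφ.ne_zero i
  simp only [wDiv, Finsupp.add_apply, Finsupp.smul_apply, div_apply hG, h1, h2,
    divDiff_apply_uniformizer hΦ ht, smul_zero, add_zero]

theorem isFixedPt_id : IsFixedPt (AlgHom.id k K) P := fun _ hz => hz

variable [IsAlgClosed k] (hK : IsFunctionField k K) {t : K} (ht : P.1 t = WithZero.exp (-1))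
  {H : K →ₐ[k] PowerSeries K} (hH : LocRes.IsHasseFamily t H) {n : ℕ} {φ : Fin (n + 1) → K}
  (hφ : LinearIndependent k φ) (heff : (1 : K) ∈ Submodule.span k (Set.range φ))
  (hnorm : ∀ i, P.1 (φ i) ≤ 1) {J J' : Fin n → ℕ}
  (hJ' : IsOrders (IsLocalRing.ResidueField P.O) (hcolAt P H φ) J')

include hK ht hH hφ heff hnorm hJ'

omit hφ heff in
theorem orders_at_pos (l : Fin n) : 0 < J' l := by
  have := isSeparable_of_hasse hK hH
  have hdeg : P.deg = 1 := (good_of_algClosed hK).deg_one P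
  exact zero_notMem_orders hdeg ht ((isOrders_hcolAt_iff hdeg ht hH hnorm J').1 hJ') l

theorem det_bounds {τ : K →ₐ[k] K} (hP : IsFixedPt τ P) {I : Fin n → ℕ} (hI : StrictMono I) :
    P.1 (wrMat τ H φ I).det ≤ WithZero.exp (-(∑ l, ((J' l : ℤ) - I l))) ∧
    (((∀ l, 0 < I l) ∨ IsStrongFixedPt τ P) →
      (P.1 (wrMat τ H φ I).det = WithZero.exp (-(∑ l, ((J' l : ℤ) - I l))) ↔
        (binomMat k J' I).det ≠ 0)) := by
  have := isSeparable_of_hasse hK hH
  have hdeg : P.deg = 1 := (good_of_algClosed hK).deg_one P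
  exact val_det_wrMat hdeg ht hH hP hφ heff hnorm ((isOrders_hcolAt_iff hdeg ht hH hnorm J').1 hJ') hI

theorem orders_le_orders_at (hJ : IsOrders K (hcol (AlgHom.id k K) H φ) J) (l : Fin n) :
    J l ≤ J' l := by
  have hpos := orders_at_pos hK ht hH hnorm hJ'
  have h := ((det_bounds hK ht hH hφ heff hnorm hJ' isFixedPt_id hJ'.1).2 (Or.inl hpos)).2
    (by rw [det_binomMat_self hJ'.1]; exact one_ne_zero)
  refine orders_le hJ hJ'.1 (fun e => ?_) l
  rw [e, map_zero] at h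
  exact WithZero.exp_ne_zero h.symm

theorem torders_add_le (hn : 0 < n) {τ : K →ₐ[k] K} (hP : IsStrongFixedPt τ P)
    (hJ : IsOrders K (hcol τ H φ) J) (l : Fin n) : J l + J' ⟨0, hn⟩ ≤ J' l := by
  obtain ⟨m, rfl⟩ := Nat.exists_eq_add_one_of_ne_zero hn.ne'
  obtain ⟨I, hI, hle, hdet⟩ := exists_binom_selection (k := k) J' hJ'.1
  have hfix : IsFixedPt τ P := fun z hz => (hP z hz).trans_lt
    (by rw [← WithZero.exp_zero, WithZero.exp_lt_exp]; norm_num)
  have h := ((det_bounds hK ht hH hφ heff hnorm hJ' hfix hI).2 (Or.inr hP)).2 hdet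
  have hne : (wrMat τ H φ I).det ≠ 0 := fun e => by
    rw [e, map_zero] at h; exact WithZero.exp_ne_zero h.symm
  have := orders_le hJ hI hne l
  have := hle l
  change J l + J' 0 ≤ J' l
  omega

theorem sum_le_ord_det {τ : K →ₐ[k] K} (hP : IsFixedPt τ P)
    (hJ : IsOrders K (hcol τ H φ) J) :
    (∑ l, ((J' l : ℤ) - J l)) ≤ P.ord (wrMat τ H φ J).det ∧
    (((∀ l, 0 < J l) ∨ IsStrongFixedPt τ P) →
      (P.ord (wrMat τ H φ J).det = ∑ l, ((J' l : ℤ) - J l) ↔ (binomMat k J' J).det ≠ 0)) := by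
  have hne : (wrMat τ H φ J).det ≠ 0 := by
    rw [wrMat_eq]
    exact selDet_ne_zero hJ (hcol_zero_ne hφ τ H)
  obtain ⟨h1, h2⟩ := det_bounds hK ht hH hφ heff hnorm hJ' hP hJ.1
  rw [val_le_exp_iff P hne, neg_neg] at h1
  refine ⟨h1, fun h => ?_⟩
  rw [← h2 h, val_eq_exp_ord P hne, WithZero.exp_inj, neg_inj]

omit [IsAlgClosed k] hK ht hH hφ heff hnorm hJ' in
theorem orders_id_pos (hH : LocRes.IsHasseFamily t H)
    (hJ : IsOrders K (hcol (AlgHom.id k K) H φ) J) (l : Fin n) : 0 < J l := by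
  refine Nat.pos_of_ne_zero fun e => (hJ.2 0).1 ⟨l, e⟩ ?_
  rw [hcol_one hH]
  exact Submodule.subset_span ⟨0, by simp, rfl⟩

theorem orders_eq_iff (hJ : IsOrders K (hcol (AlgHom.id k K) H φ) J) :
    (∀ l, J' l = J l) ↔ P.ord (wrMat (AlgHom.id k K) H φ J).det = 0 := by
  obtain ⟨h1, h2⟩ := sum_le_ord_det hK ht hH hφ heff hnorm hJ' isFixedPt_id hJ
  constructor
  · intro h
    have : J' = J := funext h
    subst this
    have := (h2 (Or.inl (orders_id_pos hH hJ))).2
      (by rw [det_binomMat_self hJ.1]; exact one_ne_zero)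
    simpa using this
  · intro h l
    rw [h] at h1
    have hle : ∀ i ∈ Finset.univ, (0 : ℤ) ≤ (J' i : ℤ) - J i := fun i _ => by
      have := orders_le_orders_at hK ht hH hφ heff hnorm hJ' hJ i
      omega
    have := (Finset.sum_eq_zero_iff_of_nonneg hle).1 (le_antisymm h1 (Finset.sum_nonneg hle)) l
      (Finset.mem_univ l)
    omega

end Groth.Funfld2.Hasse
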