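import Groth.Prelude.Def_W4bk4goldsch45p2
import Mathlib.LinearAlgebra.Matrix.NonsingularInverse
import Mathlib.LinearAlgebra.Matrix.Block
import Mathlib.LinearAlgebra.Matrix.ToLinearEquiv
import Mathlib.Data.Finset.Sort

/-! Jump indices and order sequences of a sequence of vectors. -/

open FunFld Matrix

namespace Groth.Funfld2.Hasse

variable {F M : Type*} [Field F] [AddCommGroup M] [Module F M] {c : ℕ → M}

theorem isJump_zero_iff : IsJump F c 0 ↔ c 0 ≠ 0 := by simp [IsJump]

theorem span_eq_of_jumps (c : ℕ → M) (m : ℕ) :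
    Submodule.span F (c '' {j | j < m ∧ IsJump F c j}) = Submodule.span F (c '' Set.Iio m) := by
  induction m with
  | zero => simp [Set.Iio]
  | succ m ih =>
    refine le_antisymm (Submodule.span_mono (Set.image_mono fun j hj => hj.1)) ?_
    rw [Submodule.span_le]
    rintro _ ⟨j, hj, rfl⟩
    have hmono : Submodule.span F (c '' {j | j < m ∧ IsJump F c j}) ≤
        Submodule.span F (c '' {j | j < m + 1 ∧ IsJump F c j}) :=
      Submodule.span_mono (Set.image_mono fun i hi => ⟨Nat.lt_succ_of_lt hi.1, hi.2⟩)
    rcases Nat.lt_succ_iff_lt_or_eq.1 hj with h | rfl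
    · exact hmono (ih ▸ Submodule.subset_span (Set.mem_image_of_mem c h))
    · by_cases h : IsJump F c j
      · exact Submodule.subset_span (Set.mem_image_of_mem c ⟨Nat.lt_succ_self j, h⟩)
      · exact hmono (ih ▸ not_not.1 h)

theorem linearIndependent_jumps {m : ℕ} (j : Fin m → ℕ) (hj : StrictMono j)
    (h : ∀ i, IsJump F c (j i)) : LinearIndependent F (c ∘ j) := by
  induction m with
  | zero => exact linearIndependent_empty_type
  | succ m ih =>
    rw [linearIndependent_finSucc']
    refine ⟨ih (j ∘ Fin.castSucc) (hj.comp (fun a b h => h)) fun i => h i.castSucc,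
      fun hmem => ?_⟩
    refine h (Fin.last m) (Submodule.span_mono ?_ hmem)
    rintro _ ⟨i, rfl⟩
    exact ⟨j i.castSucc, hj (Fin.castSucc_lt_last i), rfl⟩

/-- Two sequences with the same ranks of initial spans have the same jumps. -/
theorem isJump_iff_finrank [FiniteDimensional F M] (c : ℕ → M) (j : ℕ) :
    IsJump F c j ↔ Module.finrank F (Submodule.span F (c '' Set.Iio j)) <
      Module.finrank F (Submodule.span F (c '' Set.Iio (j + 1))) := by
  have hle : Submodule.span F (c '' Set.Iio j) ≤ Submodule.span F (c '' Set.Iio (j + 1)) :=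
    Submodule.span_mono (Set.image_mono (Set.Iio_subset_Iio (Nat.le_succ j)))
  have hins : c '' Set.Iio (j + 1) = insert (c j) (c '' Set.Iio j) := by
    rw [← Set.image_insert_eq]
    congr 1
    ext i
    simp only [Set.mem_Iio, Set.mem_insert_iff]
    omega
  constructor
  · intro h
    refine Submodule.finrank_lt_finrank_of_lt (lt_of_le_of_ne hle fun e => h ?_)
    rw [e]
    exact Submodule.subset_span (Set.mem_image_of_mem c (Nat.lt_succ_self j))
  · intro h hmem
    rw [hins, Submodule.span_insert_eq_span hmem] at h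
    exact lt_irrefl _ h

theorem isJump_congr_equiv {M' : Type*} [AddCommGroup M'] [Module F M'] (e : M ≃ₗ[F] M')
    {c' : ℕ → M'} (hspan : ∀ m, Submodule.span F (c' '' Set.Iio m) =
      (Submodule.span F (c '' Set.Iio m)).map (e : M →ₗ[F] M'))
    [FiniteDimensional F M] (j : ℕ) : IsJump F c' j ↔ IsJump F c j := by
  have := e.finiteDimensional
  rw [isJump_iff_finrank, isJump_iff_finrank, hspan, hspan, e.finrank_map_eq, e.finrank_map_eq]

theorem isOrders_iff_of_isJump {c' : ℕ → M} (h : ∀ j, IsJump F c' j ↔ IsJump F c j) {n : ℕ}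
    (J : Fin n → ℕ) : IsOrders F c' J ↔ IsOrders F c J := by
  simp only [IsOrders, h]

theorem isOrders_unique {n : ℕ} {J J' : Fin n → ℕ} (h : IsOrders F c J) (h' : IsOrders F c J') :
    J = J' :=
  (StrictMono.range_inj h.1 h'.1).1 (Set.ext fun j => (h.2 j).trans (h'.2 j).symm)

section Sel

variable {n : ℕ}

/-- Leading column followed by the selected columns. -/
def sel (c : ℕ → M) (I : Fin n → ℕ) : Fin (n + 1) → M :=
  c ∘ Fin.cons 0 (fun l => I l + 1)

theorem strictMono_cons {I : Fin n → ℕ} (hI : StrictMono I) :
    StrictMono (Fin.cons 0 (fun l => I l + 1) : Fin (n + 1) → ℕ) := by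
  intro a b hab
  cases b using Fin.cases with
  | zero => exact absurd hab (Fin.not_lt.2 (Fin.zero_le a))
  | succ b =>
    cases a using Fin.cases with
    | zero => simp
    | succ a => simpa using hI (Fin.succ_lt_succ_iff.1 hab)

theorem linearIndependent_sel {J : Fin n → ℕ} (hJ : IsOrders F c J) (h0 : c 0 ≠ 0) :
    LinearIndependent F (sel c J) := by
  refine linearIndependent_jumps _ (strictMono_cons hJ.1) fun i => ?_
  cases i using Fin.cases with
  | zero => simpa [isJump_zero_iff] using h0
  | succ i => simpa using (hJ.2 (J i)).1 ⟨i, rfl⟩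

/-- Greedy minimality of the order sequence. -/
theorem orders_le_of_linearIndependent [FiniteDimensional F M] {J I : Fin n → ℕ}
    (hJ : IsOrders F c J) (hI : StrictMono I) (hind : LinearIndependent F (sel c I)) (l : Fin n) :
    J l ≤ I l := by
  by_contra hlt
  push Not at hlt
  classical
  -- the first `l + 2` selected vectors
  let s : Finset M := (Finset.univ.filter fun i : Fin n => J i ≤ I l).image (fun i => c (J i + 1)) ∪ {c 0}
  have hspan : ∀ i : Fin (l.val + 2), sel c I (Fin.castLE (by omega) i) ∈ Submodule.span F (s : Set M) := by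
    intro i
    have hle : (Fin.cons 0 (fun l => I l + 1) : Fin (n + 1) → ℕ) (Fin.castLE (by omega) i) < I l + 2 := by
      refine Nat.lt_succ_of_le ?_
      have := (strictMono_cons hI).monotone (show Fin.castLE (by omega : l.val + 2 ≤ n + 1) i ≤ l.succ from
        Fin.le_def.2 (by simp; omega))
      simpa using this
    have h1 : sel c I (Fin.castLE (by omega) i) ∈ Submodule.span F (c '' Set.Iio (I l + 2)) :=
      Submodule.subset_span (Set.mem_image_of_mem c hle)
    rw [← span_eq_of_jumps] at h1
    refine Submodule.span_mono ?_ h1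
    rintro _ ⟨j, ⟨hj, hjump⟩, rfl⟩
    rcases j with _ | j
    · simp [s]
    · obtain ⟨i', hi'⟩ := (hJ.2 j).2 hjump
      refine Finset.mem_coe.2 (Finset.mem_union_left _ (Finset.mem_image.2 ⟨i', ?_, by rw [hi']⟩))
      simp only [Finset.mem_filter, Finset.mem_univ, true_and]
      omega
  have hli : LinearIndependent F (fun i : Fin (l.val + 2) =>
      (⟨_, hspan i⟩ : Submodule.span F (s : Set M))) :=
    LinearIndependent.of_comp (Submodule.span F (s : Set M)).subtype
      (hind.comp _ (Fin.castLE_injective (by omega)))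
  have h1 := hli.fintype_card_le_finrank
  rw [Fintype.card_fin] at h1
  have h2 : Module.finrank F (Submodule.span F (s : Set M)) ≤ s.card := finrank_span_finset_le_card s
  have h3 : s.card ≤ l.val + 1 := by
    refine (Finset.card_union_le _ _).trans (add_le_add ?_ (by simp))
    refine Finset.card_image_le.trans ?_
    calc (Finset.univ.filter fun i : Fin n => J i ≤ I l).card ≤ (Finset.Iio l).card := by
          refine Finset.card_le_card fun i hi => ?_
          simp only [Finset.mem_filter, Finset.mem_univ, true_and] at hi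
          rw [Finset.mem_Iio]
          exact hJ.1.lt_iff_lt.1 (lt_of_le_of_lt hi hlt)
      _ = l.val := Fin.card_Iio l
  omega

/-- Existence of an order sequence when the sequence spans an `(n+1)`-dimensional space. -/
theorem exists_isOrders [FiniteDimensional F M] (hrank : Module.finrank F M = n + 1) (h0 : c 0 ≠ 0)
    (hspan : Submodule.span F (Set.range c) = ⊤) :
    ∃ J : Fin n → ℕ, IsOrders F c J := by
  classical
  set S := {j : ℕ | IsJump F c j} with hS
  have hli : LinearIndependent F (fun j : S => c j) := by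
    rw [linearIndependent_iff_finset_linearIndependent]
    intro t
    let t' : Finset ℕ := t.map (Function.Embedding.subtype _)
    have h := linearIndependent_jumps (c := c) (F := F) (t'.orderEmbOfFin rfl)
      (t'.orderEmbOfFin rfl).strictMono fun i => by
      have := Finset.orderEmbOfFin_mem t' rfl i
      simp only [t', Finset.mem_map, Function.Embedding.coe_subtype] at this
      obtain ⟨a, -, ha⟩ := this
      exact ha ▸ a.2
    let e : t → Fin t'.card := fun a => (t'.orderIsoOfFin rfl).symm
      ⟨(a.1 : ℕ), Finset.mem_map.2 ⟨a.1, a.2, rfl⟩⟩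
    have hval : ∀ a : t, t'.orderEmbOfFin rfl (e a) = (a.1 : ℕ) := fun a => by
      simp [e, ← Finset.coe_orderIsoOfFin_apply]
    convert h.comp e (fun a b hab => Subtype.ext (Subtype.ext (by rw [← hval a, hab, hval b]))) using 1
    funext a
    simp [Function.comp_apply, hval]
  have hfinS : Finite S := hli.finite
  let _ := Fintype.ofFinite S
  have hsp : Submodule.span F (Set.range fun j : S => c j) = Submodule.span F (Set.range c) := by
    apply le_antisymm
    · exact Submodule.span_mono (by rintro _ ⟨j, rfl⟩; exact ⟨_, rfl⟩)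
    · rw [Submodule.span_le]
      rintro _ ⟨j, rfl⟩
      refine Submodule.span_mono ?_ ((span_eq_of_jumps (F := F) c (j + 1)).ge
          (Submodule.subset_span (Set.mem_image_of_mem c (Nat.lt_succ_self j))))
      rintro _ ⟨i, hi, rfl⟩
      exact ⟨⟨i, hi.2⟩, rfl⟩
  have hcard : Fintype.card S = n + 1 := by
    rw [← hrank, ← finrank_span_eq_card hli, hsp, hspan, finrank_top]
  let T : Finset ℕ := (S.toFinset.erase 0).image Nat.pred
  have hinj : Set.InjOn Nat.pred (S.toFinset.erase 0) := by
    intro a ha b hb hab
    simp only [Finset.coe_erase, Set.mem_sdiff, Set.mem_singleton_iff] at ha hb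
    simp only [Nat.pred_eq_sub_one] at hab
    omega
  have hT : T.card = n := by
    rw [Finset.card_image_of_injOn hinj, Finset.card_erase_of_mem, Set.toFinset_card, hcard]
    · rfl
    · rw [Set.mem_toFinset]; exact isJump_zero_iff.2 h0
  refine ⟨T.orderEmbOfFin hT, (T.orderEmbOfFin hT).strictMono, fun j => ?_⟩
  rw [Finset.range_orderEmbOfFin, Finset.mem_coe]
  simp only [T, Finset.mem_image, Finset.mem_erase, Set.mem_toFinset, hS, Set.mem_ofPred_eq]
  constructor
  · rintro ⟨i, ⟨hi0, hi⟩, rfl⟩
    rwa [Nat.pred_eq_sub_one, Nat.sub_add_cancel (Nat.one_le_iff_ne_zero.2 hi0)]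
  · intro h
    exact ⟨j + 1, ⟨Nat.succ_ne_zero j, h⟩, rfl⟩

/-- The span of an initial segment is spanned by the selected vectors in it. -/
theorem span_Iio_le_span_sel {J : Fin n → ℕ} (hJ : IsOrders F c J) (i : Fin (n + 1)) :
    Submodule.span F (c '' Set.Iio ((Fin.cons 0 (fun l => J l + 1) : Fin (n + 1) → ℕ) i)) ≤
      Submodule.span F (sel c J '' Set.Iio i) := by
  rw [← span_eq_of_jumps]
  refine Submodule.span_mono ?_
  rintro _ ⟨j, ⟨hj, hjump⟩, rfl⟩
  rcases j with _ | j
  · refine ⟨0, ?_, by simp [sel]⟩
    by_contra h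
    rw [Set.mem_Iio, not_lt, Fin.le_zero_iff] at h
    subst h
    simp at hj
  · obtain ⟨i', hi'⟩ := (hJ.2 j).2 hjump
    refine ⟨i'.succ, ?_, by simp [sel, hi']⟩
    refine (strictMono_cons hJ.1).lt_iff_lt.1 ?_
    simpa [hi'] using hj

end Sel

section Det

variable {n : ℕ} {c c' : ℕ → Fin (n + 1) → F}

/-- The determinant of selected columns. -/
noncomputable def selDet (c : ℕ → Fin (n + 1) → F) (I : Fin n → ℕ) : F :=
  (Matrix.of fun i q => sel c I q i).det

theorem selDet_ne_zero_iff {I : Fin n → ℕ} :
    selDet c I ≠ 0 ↔ LinearIndependent F (sel c I) := by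
  rw [selDet, ← isUnit_iff_ne_zero, ← Matrix.isUnit_iff_isUnit_det,
    ← Matrix.linearIndependent_cols_iff_isUnit]
  rfl

theorem selDet_ne_zero {J : Fin n → ℕ} (hJ : IsOrders F c J) (h0 : c 0 ≠ 0) : selDet c J ≠ 0 :=
  selDet_ne_zero_iff.2 (linearIndependent_sel hJ h0)

theorem span_Iio_triangular {M : Type*} [AddCommGroup M] [Module F M] {c c' : ℕ → M} (a : ℕ → F)
    (ha : ∀ j, a j ≠ 0) (h : ∀ j, c' j - a j • c j ∈ Submodule.span F (c '' Set.Iio j)) (m : ℕ) :
    Submodule.span F (c' '' Set.Iio m) = Submodule.span F (c '' Set.Iio m) := by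
  induction m with
  | zero => simp [Set.Iio]
  | succ m ih =>
    have hins : ∀ d : ℕ → M, d '' Set.Iio (m + 1) = insert (d m) (d '' Set.Iio m) := fun d => by
      rw [← Set.image_insert_eq]
      congr 1
      ext i
      simp only [Set.mem_Iio, Set.mem_insert_iff]
      omega
    rw [hins, hins, Submodule.span_insert, Submodule.span_insert, ih]
    refine le_antisymm (sup_le ?_ le_sup_right) (sup_le ?_ le_sup_right)
    · rw [Submodule.span_singleton_le_iff_mem, ← sub_add_cancel (c' m) (a m • c m)]
      exact add_mem (Submodule.mem_sup_right (h m))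
        (Submodule.mem_sup_left (Submodule.smul_mem _ _ (Submodule.mem_span_singleton_self _)))
    · rw [Submodule.span_singleton_le_iff_mem]
      have : a m • c m ∈ Submodule.span F {c' m} ⊔ Submodule.span F (c '' Set.Iio m) := by
        rw [show a m • c m = c' m - (c' m - a m • c m) by abel]
        exact sub_mem (Submodule.mem_sup_left (Submodule.mem_span_singleton_self _))
          (Submodule.mem_sup_right (h m))
      have := Submodule.smul_mem _ (a m)⁻¹ this
      rwa [inv_smul_smul₀ (ha m)] at this

/-- Effect of a triangular change on the determinant at the order sequence. -/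
theorem selDet_triangular (a : ℕ → F)
    (h : ∀ j, c' j - a j • c j ∈ Submodule.span F (c '' Set.Iio j)) {J : Fin n → ℕ}
    (hJ : IsOrders F c J) :
    selDet c' J = a 0 * (∏ l, a (J l + 1)) * selDet c J := by
  classical
  let idx : Fin (n + 1) → ℕ := Fin.cons 0 (fun l => J l + 1)
  have hmem : ∀ q : Fin (n + 1), c' (idx q) - a (idx q) • c (idx q) ∈
      Submodule.span F (Set.range fun p : Set.Iio q => sel c J p) := by
    intro q
    rw [show (Set.range fun p : Set.Iio q => sel c J p) = sel c J '' Set.Iio q from
      Set.ext fun x => by simp]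
    exact span_Iio_le_span_sel hJ q (h (idx q))
  choose b hb using fun q => (Submodule.mem_span_range_iff_exists_fun F).1 (hmem q)
  let U : Matrix (Fin (n + 1)) (Fin (n + 1)) F := Matrix.of fun p q =>
    if hp : p < q then b q ⟨p, hp⟩ else if p = q then a (idx q) else 0
  have hcol : (Matrix.of fun i q => sel c' J q i) = (Matrix.of fun i q => sel c J q i) * U := by
    ext i q
    rw [Matrix.mul_apply]
    simp only [Matrix.of_apply, U, sel, Function.comp_apply]
    have h1 := congrFun (hb q) i
    simp only [Finset.sum_apply, Pi.smul_apply, smul_eq_mul, Pi.sub_apply, sel,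
      Function.comp_apply, idx] at h1
    rw [← Finset.sum_erase_add _ _ (Finset.mem_univ q), dif_neg (lt_irrefl q), if_pos rfl,
      ← sub_eq_iff_eq_add]
    refine Eq.trans ?_ (Eq.trans h1.symm ?_)
    · simp only [idx]; ring
    · rw [← Finset.sum_filter_add_sum_filter_not (Finset.univ.erase q) (· < q)]
      have hz : ∑ p ∈ (Finset.univ.erase q).filter (fun p => ¬ p < q),
          c (idx p) i * (if hp : p < q then b q ⟨p, hp⟩ else if p = q then a (idx q) else 0) = 0 := by
        refine Finset.sum_eq_zero fun p hp => ?_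
        simp only [Finset.mem_filter, Finset.mem_erase] at hp
        rw [dif_neg hp.2, if_neg hp.1.1, mul_zero]
      simp only [idx] at hz
      rw [hz, add_zero]
      refine Finset.sum_bij' (fun p _ => (p : Fin (n + 1))) (fun p hp => ⟨p, (Finset.mem_filter.1 hp).2⟩)
        ?_ ?_ ?_ ?_ ?_
      · intro p _; simp [ne_of_lt (Set.mem_Iio.1 p.2), Set.mem_Iio.1 p.2]
      · intro p _; simp
      · intro p _; rfl
      · intro p _; rfl
      · intro p _
        rw [dif_pos (show (p : Fin (n + 1)) < q from Set.mem_Iio.1 p.2)]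
        ring
  have hU : U.det = ∏ q, a (idx q) := by
    rw [Matrix.det_of_isUpperTriangular (fun i j hij => ?_)]
    · exact Finset.prod_congr rfl fun q _ => by simp [U]
    · simp only [U, Matrix.of_apply]
      have hij' : j < i := hij
      rw [dif_neg (not_lt.2 hij'.le), if_neg hij'.ne']
  rw [selDet, hcol, Matrix.det_mul, hU, selDet, Fin.prod_univ_succ]
  simp only [idx, Fin.cons_zero, Fin.cons_succ]
  ring

end Det

end Groth.Funfld2.Hasse
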