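import Groth.Agent.Funfld2.Hasse.Basic
import Groth.Agent.Funfld2.Hasse.Jumps
import Mathlib.RingTheory.PowerSeries.Substitution
import Mathlib.FieldTheory.IsAlgClosed.Basic

/-! Order sequences and Wronskians of projective maps. -/

open FunFld
open scoped LaurentSeries

namespace Groth.Funfld2.Hasse

variable {k K : Type*} [Field k] [Field K] [Algebra k K]

theorem wrMat_eq {n : ℕ} (τ : K →ₐ[k] K) (H : K →ₐ[k] PowerSeries K) (φ : Fin (n + 1) → K)
    (I : Fin n → ℕ) :
    (wrMat τ H φ I).det = selDet (hcol τ H φ) I := by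
  rw [selDet]
  congr 1
  ext1 i q
  cases q using Fin.cases <;> rfl

theorem hcol_zero_ne {n : ℕ} {φ : Fin (n + 1) → K} (hφ : LinearIndependent k φ) (τ : K →ₐ[k] K)
    (H : K →ₐ[k] PowerSeries K) : hcol τ H φ 0 ≠ 0 := by
  intro h
  exact hφ.ne_zero 0 (τ.toRingHom.injective ((congrFun h 0).trans (map_zero τ.toRingHom).symm))

theorem hcol_one {ι : Type*} {t : K} {H : K →ₐ[k] PowerSeries K} (hH : LocRes.IsHasseFamily t H)
    (τ : K →ₐ[k] K) (φ : ι → K) : hcol τ H φ 1 = φ := funext fun i => hasseD_zero hH (φ i)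

variable [IsAlgClosed k] (hK : IsFunctionField k K) {t : K} {H : K →ₐ[k] PowerSeries K}
  (hH : LocRes.IsHasseFamily t H)

include hK hH

/-- Rows of the matrix of Hasse derivatives of independent functions are independent. -/
theorem rows_independent {ι : Type*} {φ : ι → K} (hφ : LinearIndependent k φ) (s : Finset ι)
    (a : ι → K) (ha : ∀ j, ∑ i ∈ s, a i * LocRes.hasseD H j (φ i) = 0) : ∀ i ∈ s, a i = 0 := by
  classical
  have hsep := isSeparable_of_hasse hK hH
  induction s using Finset.induction_on generalizing a with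
  | empty => simp
  | @insert i₀ s hi₀ ih =>
    by_cases h0 : a i₀ = 0
    · have := ih a fun j => by
        have := ha j
        rwa [Finset.sum_insert hi₀, h0, zero_mul, zero_add] at this
      simpa [h0] using this
    exfalso
    set b : ι → K := fun i => a i / a i₀ with hb
    have hb0 : b i₀ = 1 := div_self h0
    have hbj : ∀ j, ∑ i ∈ insert i₀ s, b i * LocRes.hasseD H j (φ i) = 0 := by
      intro j
      simp only [hb, div_mul_eq_mul_div, ← Finset.sum_div, ha j, zero_div]
    have hD : ∀ m j, ∑ i ∈ insert i₀ s, LocRes.hasseD H m (b i) * LocRes.hasseD H j (φ i) = 0 := by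
      intro m
      induction m using Nat.strong_induction_on with
      | _ m ihm =>
        intro j
        have h := congrArg (LocRes.hasseD H m) (hbj j)
        rw [hasseD_sum, show LocRes.hasseD H m 0 = 0 by simp [LocRes.hasseD_apply]] at h
        simp only [hasseD_mul] at h
        rw [Finset.sum_comm, Finset.sum_eq_single_of_mem (m, 0)
          (Finset.HasAntidiagonal.mem_antidiagonal.2 (add_zero m))] at h
        · simp only [hasseD_zero hH] at h
          exact h
        · intro p hp hne
          rw [Finset.HasAntidiagonal.mem_antidiagonal] at hp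
          have hlt : p.1 < m := by
            rcases p with ⟨p, q⟩
            simp only at hp
            by_contra hc
            exact hne (by simp only [Prod.mk.injEq]; omega)
          simp only [hasseD_comp hH, mul_smul_comm, ← Finset.smul_sum]
          rw [ihm p.1 hlt, smul_zero]
    have hconst : ∀ i ∈ s, b i ∈ Set.range (algebraMap k K) := fun i hi => by
      refine mem_range_of_hasseD_eq_zero hK hH fun m hm => ?_
      refine ih (fun i => LocRes.hasseD H m (b i)) (fun j => ?_) i hi
      have := hD m j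
      rwa [Finset.sum_insert hi₀, hb0, ← map_one (algebraMap k K), hasseD_algebraMap H hm, zero_mul,
        zero_add] at this
    choose c hc using hconst
    let c' : ι → k := fun i => if h : i ∈ s then c i h else if i = i₀ then 1 else 0
    have hrel : ∑ i ∈ insert i₀ s, c' i • φ i = 0 := by
      rw [← hbj 0]
      refine Finset.sum_congr rfl fun i hi => ?_
      rw [hasseD_zero hH, Algebra.smul_def]
      rcases Finset.mem_insert.1 hi with rfl | hi'
      · simp [c', hi₀, hb0]
      · simp [c', hi', hc i hi']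
    have := linearIndependent_iff'.1 hφ _ c' hrel i₀ (Finset.mem_insert_self i₀ s)
    simp [c', hi₀] at this

theorem span_hcol_eq_top {n : ℕ} {φ : Fin (n + 1) → K} (hφ : LinearIndependent k φ)
    (τ : K →ₐ[k] K) : Submodule.span K (Set.range (hcol τ H φ)) = ⊤ := by
  classical
  by_contra hne
  obtain ⟨f, hf, hker⟩ := Submodule.exists_le_ker_of_lt_top _ (lt_top_iff_ne_top.2 hne)
  refine hf (LinearMap.pi_ext' fun i => LinearMap.ext_ring ?_)
  have hsum : ∀ v : Fin (n + 1) → K, f v = ∑ i, f (Pi.single i 1) * v i := by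
    intro v
    conv_lhs => rw [← Finset.univ_sum_single v]
    rw [map_sum]
    refine Finset.sum_congr rfl fun i _ => ?_
    rw [show (Pi.single i (v i) : Fin (n + 1) → K) = v i • Pi.single i 1 by
      rw [← Pi.single_smul, smul_eq_mul, mul_one], map_smul, smul_eq_mul, mul_comm]
  have := rows_independent hK hH hφ Finset.univ (fun i => f (Pi.single i 1)) fun j => by
    have := hker (Submodule.subset_span ⟨j + 1, rfl⟩)
    rw [LinearMap.mem_ker, hsum] at this
    exact this
  simpa using this i (Finset.mem_univ i)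

theorem exists_orders {n : ℕ} {φ : Fin (n + 1) → K} (hφ : LinearIndependent k φ)
    (τ : K →ₐ[k] K) :
    ∃ J : Fin n → ℕ, IsOrders K (hcol τ H φ) J ∧ (wrMat τ H φ J).det ≠ 0 := by
  obtain ⟨J, hJ⟩ := exists_isOrders (n := n) (Module.finrank_fin_fun K) (hcol_zero_ne hφ τ H)
    (span_hcol_eq_top hK hH hφ τ)
  exact ⟨J, hJ, by rw [wrMat_eq]; exact selDet_ne_zero hJ (hcol_zero_ne hφ τ H)⟩

omit [IsAlgClosed k] hK hH in
theorem orders_le {n : ℕ} {φ : Fin (n + 1) → K} {τ : K →ₐ[k] K} {J J' : Fin n → ℕ}
    (hJ : IsOrders K (hcol τ H φ) J) (hJ' : StrictMono J') (hdet : (wrMat τ H φ J').det ≠ 0)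
    (l : Fin n) : J l ≤ J' l := by
  rw [wrMat_eq, selDet_ne_zero_iff] at hdet
  exact orders_le_of_linearIndependent hJ hJ' hdet l

omit [IsAlgClosed k] hK in
theorem not_isJump_one_iff {n : ℕ} (φ : Fin (n + 1) → K) (h0 : φ 0 ≠ 0)
    (hbir : IntermediateField.adjoin k (Set.range fun i => φ i / φ 0) = ⊤) (τ : K →ₐ[k] K) :
    ¬ IsJump K (hcol τ H φ) 1 ↔ τ = AlgHom.id k K := by
  rw [IsJump, not_not, show Set.Iio (1 : ℕ) = {0} by ext; simp, Set.image_singleton,
    Submodule.mem_span_singleton, hcol_one hH]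
  constructor
  · rintro ⟨y, hy⟩
    have hy' : ∀ i, y * τ (φ i) = φ i := fun i => congrFun hy i
    have hy0 : y ≠ 0 := fun e => h0 (by rw [← hy' 0, e, zero_mul])
    have hgen : ∀ i, τ (φ i / φ 0) = φ i / φ 0 := by
      intro i
      conv_rhs => rw [← hy' i, ← hy' 0]
      rw [map_div₀, mul_div_mul_left _ _ hy0]
    have hF := IntermediateField.adjoin_le_iff.2 (show Set.range (fun i => φ i / φ 0) ⊆
      ({ carrier := {z | τ z = z}
         mul_mem' := fun {a b} ha hb => by simp_all
         one_mem' := map_one τ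
         add_mem' := fun {a b} ha hb => by simp_all
         zero_mem' := map_zero τ
         algebraMap_mem' := τ.commutes
         inv_mem' := fun a ha => by simp_all } : IntermediateField k K) from by
      rintro _ ⟨i, rfl⟩; exact hgen i)
    rw [hbir] at hF
    exact AlgHom.ext fun z => hF (IntermediateField.mem_top : z ∈ ⊤)
  · rintro rfl
    exact ⟨1, by rw [one_smul]; rfl⟩

omit [IsAlgClosed k] hK hH in
theorem linear_change {n : ℕ} (τ : K →ₐ[k] K) (φ φ' : Fin (n + 1) → K)
    (A : Matrix (Fin (n + 1)) (Fin (n + 1)) k) (hA : A.det ≠ 0)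
    (hφ' : ∀ i, φ' i = ∑ j, A i j • φ j) :
    (∀ J : Fin n → ℕ, IsOrders K (hcol τ H φ') J ↔ IsOrders K (hcol τ H φ) J) ∧
      ∀ I : Fin n → ℕ, (wrMat τ H φ' I).det = algebraMap k K A.det * (wrMat τ H φ I).det := by
  set B : Matrix (Fin (n + 1)) (Fin (n + 1)) K := A.map (algebraMap k K) with hB
  have hcol : ∀ j, hcol τ H φ' j = B.mulVec (hcol τ H φ j) := by
    intro j
    funext i
    rcases j with _ | j
    · change τ (φ' i) = _
      rw [hφ', map_sum]
      simp only [Matrix.mulVec, dotProduct, hB, Matrix.map_apply, map_smul]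
      exact Finset.sum_congr rfl fun x _ => Algebra.smul_def _ _
    · change LocRes.hasseD H j (φ' i) = _
      rw [hφ', hasseD_sum]
      simp only [Matrix.mulVec, dotProduct, hB, Matrix.map_apply, hasseD_smul]
      exact Finset.sum_congr rfl fun x _ => Algebra.smul_def _ _
  have hBdet : B.det = algebraMap k K A.det := (RingHom.map_det _ A).symm
  have hBne : B.det ≠ 0 := by rw [hBdet]; exact (map_ne_zero _).2 hA
  have hBu : IsUnit B.det := isUnit_iff_ne_zero.2 hBne
  refine ⟨fun J => isOrders_iff_of_isJump (fun j => ?_) J, fun I => ?_⟩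
  · refine isJump_congr_equiv (Matrix.toLinearEquiv' B (B.invertibleOfIsUnitDet hBu)) (fun m => ?_) j
    rw [Submodule.map_span, ← Set.image_comp]
    congr 1
    refine Set.image_congr fun i _ => ?_
    rw [hcol]
    rfl
  · rw [wrMat_eq, wrMat_eq, selDet, selDet, ← hBdet, ← Matrix.det_mul]
    congr 1
    ext1 i q
    simp only [Matrix.of_apply, sel, Function.comp_apply, hcol, Matrix.mul_apply, Matrix.mulVec,
      dotProduct]

omit [IsAlgClosed k] hK in
theorem smul_change {n : ℕ} (τ : K →ₐ[k] K) (φ : Fin (n + 1) → K) {y : K} (hy : y ≠ 0) :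
    (∀ J : Fin n → ℕ, IsOrders K (hcol τ H (y • φ)) J ↔ IsOrders K (hcol τ H φ) J) ∧
      ∀ J : Fin n → ℕ, IsOrders K (hcol τ H φ) J →
        (wrMat τ H (y • φ) J).det = τ y * y ^ n * (wrMat τ H φ J).det := by
  let a : ℕ → K := fun j => if j = 0 then τ y else y
  have ha : ∀ j, a j ≠ 0 := fun j => by
    simp only [a]; split_ifs
    · exact fun h => hy (τ.toRingHom.injective (h.trans (map_zero τ.toRingHom).symm))
    · exact hy
  have htri : ∀ j, hcol τ H (y • φ) j - a j • hcol τ H φ j ∈
      Submodule.span K (hcol τ H φ '' Set.Iio j) := by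
    intro j
    rcases j with _ | j
    · convert Submodule.zero_mem _ using 1
      funext i
      simp [hcol, a]
    · have e : hcol τ H (y • φ) (j + 1) - a (j + 1) • hcol τ H φ (j + 1) =
          ∑ p ∈ (Finset.HasAntidiagonal.antidiagonal j).erase (0, j),
            LocRes.hasseD H p.1 y • hcol τ H φ (p.2 + 1) := by
        funext i
        have h := hasseD_mul H j y (φ i)
        rw [← Finset.sum_erase_add _ _ (Finset.HasAntidiagonal.mem_antidiagonal.2 (zero_add j) :
          ((0, j) : ℕ × ℕ) ∈ Finset.HasAntidiagonal.antidiagonal j), hasseD_zero hH] at h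
        simp only [Pi.sub_apply, Pi.smul_apply, Finset.sum_apply, smul_eq_mul, a,
          Nat.add_eq_zero_iff, one_ne_zero, and_false, if_false]
        change LocRes.hasseD H j (y * φ i) - y * LocRes.hasseD H j (φ i) = _
        rw [h, add_sub_cancel_right]
        rfl
      rw [e]
      refine Submodule.sum_mem _ fun p hp => Submodule.smul_mem _ _
        (Submodule.subset_span (Set.mem_image_of_mem _ ?_))
      rw [Finset.mem_erase, Finset.HasAntidiagonal.mem_antidiagonal] at hp
      rcases p with ⟨p, q⟩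
      simp only [ne_eq, Prod.mk.injEq] at hp
      rw [Set.mem_Iio]
      by_contra hc
      exact hp.1 ⟨by omega, by omega⟩
  refine ⟨fun J => isOrders_iff_of_isJump (fun j => ?_) J, fun J hJ => ?_⟩
  · exact isJump_congr_equiv (LinearEquiv.refl K _) (fun m => by
      rw [span_Iio_triangular a ha htri m]; exact (Submodule.map_id _).symm) j
  · rw [wrMat_eq, wrMat_eq, selDet_triangular a htri hJ]
    simp [a]

/-- Change of the separating variable. -/
theorem variable_change {n : ℕ} (τ : K →ₐ[k] K) (φ : Fin (n + 1) → K) {u : K}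
    {Hu : K →ₐ[k] PowerSeries K} (hHu : LocRes.IsHasseFamily u Hu) :
    (∀ J : Fin n → ℕ, IsOrders K (hcol τ Hu φ) J ↔ IsOrders K (hcol τ H φ) J) ∧
      ∀ J : Fin n → ℕ, IsOrders K (hcol τ H φ) J →
        (wrMat τ Hu φ J).det = LocRes.hasseD Hu 1 t ^ (∑ l, J l) * (wrMat τ H φ J).det := by
  have hsep := isSeparable_of_hasse hK hH
  set w : PowerSeries K := Hu t - PowerSeries.C t with hw
  have hwc : PowerSeries.constantCoeff w = 0 := by simp [hw, hHu.2 t]
  have hs : PowerSeries.HasSubst w := PowerSeries.HasSubst.of_constantCoeff_zero' hwc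
  have hsubC : ∀ c : K, PowerSeries.substAlgHom (R := K) hs (PowerSeries.C c) = PowerSeries.C c := by
    intro c
    rw [← Polynomial.coe_C, PowerSeries.substAlgHom_coe, Polynomial.aeval_C]
    simp [PowerSeries.algebraMap_apply]
  have hcoe : ∀ f : PowerSeries K, PowerSeries.substAlgHom (R := K) hs f = f.subst w :=
    fun f => congrFun (PowerSeries.coe_substAlgHom hs) f
  have key : Hu.toRingHom = (PowerSeries.substAlgHom (R := K) hs).toRingHom.comp H.toRingHom := by
    refine powerSeries_hom_ext (k := k) (t := t) _ _ (fun c => ?_) ?_ fun y => ?_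
    · simp [PowerSeries.algebraMap_apply, hsubC]
    · simp only [RingHom.comp_apply, AlgHom.toRingHom_eq_coe, RingHom.coe_coe]
      rw [hH.1, map_add, hsubC, PowerSeries.substAlgHom_X hs, hw]
      abel
    · simp only [RingHom.comp_apply, AlgHom.toRingHom_eq_coe, RingHom.coe_coe]
      rw [hHu.2, ← PowerSeries.coeff_zero_eq_constantCoeff_apply, hcoe,
        PowerSeries.coeff_subst' hs, finsum_eq_single _ 0 (fun d hd => ?_)]
      · simp [hH.2 y]
      · simp [hwc, zero_pow hd]
  have hcoeff : ∀ (j : ℕ) (y : K), LocRes.hasseD Hu j y =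
      ∑ d ∈ Finset.range (j + 1), LocRes.hasseD H d y * PowerSeries.coeff j (w ^ d) := by
    intro j y
    have h := congrArg (fun f : K →+* PowerSeries K => PowerSeries.coeff j (f y)) key
    simp only [RingHom.comp_apply, AlgHom.toRingHom_eq_coe, RingHom.coe_coe, hcoe,
      PowerSeries.coeff_subst' hs] at h
    rw [LocRes.hasseD_apply, h, finsum_eq_sum_of_support_subset]
    · rfl
    · intro d hd
      simp only [Function.mem_support, smul_eq_mul] at hd
      rw [Finset.coe_range, Set.mem_Iio]
      by_contra hlt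
      refine hd ?_
      rw [show PowerSeries.coeff j (w ^ d) = 0 from ?_, mul_zero]
      exact PowerSeries.coeff_of_lt_order j (lt_of_lt_of_le (by exact_mod_cast (by omega : j < d))
        (PowerSeries.le_order_pow_of_constantCoeff_eq_zero d hwc))
  have hdiag : ∀ d : ℕ, PowerSeries.coeff d (w ^ d) = LocRes.hasseD Hu 1 t ^ d := by
    obtain ⟨v, hv⟩ := PowerSeries.X_dvd_iff.2 hwc
    intro d
    have h1 : LocRes.hasseD Hu 1 t = PowerSeries.constantCoeff v := by
      have := congrArg (PowerSeries.coeff 1) hv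
      rw [hw, map_sub, PowerSeries.coeff_succ_X_mul, PowerSeries.coeff_C] at this
      simpa [LocRes.hasseD_apply] using this
    rw [hv, mul_pow, h1, PowerSeries.coeff_X_pow_mul']
    simp
  have hne : LocRes.hasseD Hu 1 t ≠ 0 := by
    intro h0
    have h := hcoeff 1 u
    rw [hasseD_one_self hHu, Finset.sum_range_succ, Finset.sum_range_succ, Finset.sum_range_zero,
      zero_add, hdiag 1, h0, pow_zero, PowerSeries.coeff_one] at h
    simp at h
  let a : ℕ → K := fun j => if j = 0 then 1 else LocRes.hasseD Hu 1 t ^ (j - 1)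
  have ha : ∀ j, a j ≠ 0 := fun j => by
    simp only [a]; split_ifs
    · exact one_ne_zero
    · exact pow_ne_zero _ hne
  have htri : ∀ j, hcol τ Hu φ j - a j • hcol τ H φ j ∈
      Submodule.span K (hcol τ H φ '' Set.Iio j) := by
    intro j
    rcases j with _ | j
    · convert Submodule.zero_mem _ using 1
      funext i
      simp [hcol, a]
    · have e : hcol τ Hu φ (j + 1) - a (j + 1) • hcol τ H φ (j + 1) =
          ∑ d ∈ Finset.range j, PowerSeries.coeff j (w ^ d) • hcol τ H φ (d + 1) := by
        funext i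
        have h := hcoeff j (φ i)
        rw [Finset.sum_range_succ, hdiag] at h
        simp only [Pi.sub_apply, Pi.smul_apply, Finset.sum_apply, smul_eq_mul, a,
          Nat.add_eq_zero_iff, one_ne_zero, and_false, if_false, Nat.add_sub_cancel]
        change LocRes.hasseD Hu j (φ i) - LocRes.hasseD Hu 1 t ^ j * LocRes.hasseD H j (φ i) = _
        rw [h, mul_comm (LocRes.hasseD H j (φ i)), add_sub_cancel_right]
        exact Finset.sum_congr rfl fun d _ => mul_comm _ _
      rw [e]
      exact Submodule.sum_mem _ fun d hd => Submodule.smul_mem _ _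
        (Submodule.subset_span (Set.mem_image_of_mem _ (by
          simp only [Finset.mem_range] at hd
          simp only [Set.mem_Iio]; omega)))
  refine ⟨fun J => isOrders_iff_of_isJump (fun j => ?_) J, fun J hJ => ?_⟩
  · exact isJump_congr_equiv (LinearEquiv.refl K _) (fun m => by
      rw [span_Iio_triangular a ha htri m]; exact (Submodule.map_id _).symm) j
  · rw [wrMat_eq, wrMat_eq, selDet_triangular a htri hJ]
    simp [a, Finset.prod_pow_eq_pow_sum]

omit [IsAlgClosed k] hK in
/-- The `τ`-orders for `τ ≠ 1` drop exactly one of the orders. -/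
theorem drop_one_order {n : ℕ} (φ : Fin (n + 1) → K) (h0 : φ 0 ≠ 0)
    (hbir : IntermediateField.adjoin k (Set.range fun i => φ i / φ 0) = ⊤)
    (hspan : Submodule.span K (Set.range (hcol (AlgHom.id k K) H φ)) = ⊤)
    {τ : K →ₐ[k] K} (hτ : τ ≠ AlgHom.id k K) {J : Fin n → ℕ}
    (hJ : IsOrders K (hcol (AlgHom.id k K) H φ) J) :
    ∃ m : Fin n, ∀ j : ℕ, IsJump K (hcol τ H φ) (j + 1) ↔ (j = 0 ∨ ∃ l, l ≠ m ∧ J l = j) := by
  classical
  set cI := hcol (AlgHom.id k K) H φ with hcI
  set cT := hcol τ H φ with hcT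
  let S : ℕ → Submodule K (Fin (n + 1) → K) := fun j => Submodule.span K (cI '' Set.Iio (j + 1))
  set v := cT 0 with hv
  have hv0 : v ≠ 0 := fun h => by
    have := congrFun h 0
    exact h0 (τ.toRingHom.injective (this.trans (map_zero τ.toRingHom).symm))
  have h01 : cI 1 = cI 0 := hcol_one hH _ φ
  have hJ0 : ∀ l, J l ≠ 0 := by
    intro l e
    refine (hJ.2 0).1 ⟨l, e⟩ ?_
    rw [h01]
    exact Submodule.subset_span ⟨0, by simp, rfl⟩
  have hT1 : IsJump K cT 1 := not_not.1 fun h => hτ ((not_isJump_one_iff hH φ h0 hbir τ).1 h)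
  have hvS0 : v ∉ S 0 := by
    intro h
    simp only [S, zero_add, show Set.Iio (1 : ℕ) = {0} by ext; simp, Set.image_singleton,
      Submodule.mem_span_singleton] at h
    obtain ⟨y, hy⟩ := h
    have hy0 : y ≠ 0 := fun e => hv0 (by rw [← hy, e, zero_smul])
    refine hT1 ?_
    rw [show Set.Iio (1 : ℕ) = {0} by ext; simp, Set.image_singleton]
    refine Submodule.mem_span_singleton.2 ⟨y⁻¹, ?_⟩
    rw [← hv, ← hy, inv_smul_smul₀ hy0, ← h01]
    rfl
  have hlast : ∃ j, v ∈ S j := by
    have : v ∈ Submodule.span K (Set.range cI) := hspan ▸ Submodule.mem_top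
    obtain ⟨T, hT, hvT⟩ := Submodule.mem_span_finite_of_mem_span this
    obtain ⟨N, hN⟩ : ∃ N, (T : Set (Fin (n + 1) → K)) ⊆ cI '' Set.Iio (N + 1) := by
      choose g hg using fun x : T => hT x.2
      refine ⟨Finset.univ.sup g, fun x hx => ⟨g ⟨x, hx⟩, ?_, hg ⟨x, hx⟩⟩⟩
      exact Nat.lt_succ_of_le (Finset.le_sup (f := g) (Finset.mem_univ _))
    exact ⟨N, Submodule.span_mono hN hvT⟩
  set M := Nat.find hlast with hM
  have hMspec : v ∈ S M := Nat.find_spec hlast
  have hMmin : ∀ j < M, v ∉ S j := fun j hj => Nat.find_min hlast hj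
  have hMpos : 0 < M := Nat.pos_of_ne_zero fun e => hvS0 (e ▸ hMspec)
  have hS : ∀ j, S (j + 1) = Submodule.span K {cI (j + 1)} ⊔ S j := by
    intro j
    simp only [S]
    rw [← Submodule.span_union]
    congr 1
    ext x
    simp only [Set.mem_image, Set.mem_Iio, Set.singleton_union, Set.mem_insert_iff]
    constructor
    · rintro ⟨i, hi, rfl⟩
      rcases Nat.lt_succ_iff_lt_or_eq.1 hi with h | h
      · exact Or.inr ⟨i, h, rfl⟩
      · exact Or.inl (by rw [h])
    · rintro (rfl | ⟨i, hi, rfl⟩)
      · exact ⟨j + 1, by omega, rfl⟩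
      · exact ⟨i, by omega, rfl⟩
  obtain ⟨m, hm⟩ : ∃ m, J m = M - 1 := by
    refine (hJ.2 (M - 1)).2 fun hmem => hMmin (M - 1) (by omega) ?_
    have e := hS (M - 1)
    rw [show Submodule.span K {cI (M - 1 + 1)} ⊔ S (M - 1) = S (M - 1) from
      sup_eq_right.2 ((Submodule.span_singleton_le_iff_mem _ _).2 hmem)] at e
    rw [← e, Nat.sub_add_cancel hMpos]
    exact hMspec
  -- the spans for `τ`
  have hspanT : ∀ j, 0 < j → Submodule.span K (cT '' Set.Iio (j + 1)) =
      Submodule.span K {v} ⊔ S j := by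
    intro j hj
    simp only [S]
    rw [← Submodule.span_union]
    congr 1
    ext x
    simp only [Set.mem_image, Set.mem_Iio, Set.singleton_union, Set.mem_insert_iff]
    constructor
    · rintro ⟨i, hi, rfl⟩
      rcases i with _ | i
      · exact Or.inl hv.symm
      · exact Or.inr ⟨i + 1, hi, rfl⟩
    · rintro (rfl | ⟨i, hi, rfl⟩)
      · exact ⟨0, by omega, hv.symm⟩
      · rcases i with _ | i
        · exact ⟨1, by omega, h01⟩
        · exact ⟨i + 1, hi, rfl⟩
  refine ⟨m, fun j => ?_⟩
  rcases Nat.eq_zero_or_pos j with rfl | hj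
  · simpa using hT1
  simp only [hj.ne', false_or]
  have hiff : IsJump K cT (j + 1) ↔ cI (j + 1) ∉ Submodule.span K {v} ⊔ S j := by
    rw [IsJump, hspanT j hj]
    rfl
  rw [hiff]
  constructor
  · intro h
    obtain ⟨l, hl⟩ := (hJ.2 j).2 fun e => h (Submodule.mem_sup_right e)
    refine ⟨l, fun e => h ?_, hl⟩
    subst e
    have hjM : j + 1 = M := by omega
    have h1 : v ∈ S (j + 1) := by rw [hjM]; exact hMspec
    rw [hS, Submodule.mem_sup] at h1
    obtain ⟨p, hp, q, hq, e⟩ := h1
    obtain ⟨r, rfl⟩ := Submodule.mem_span_singleton.1 hp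
    have hr : r ≠ 0 := fun hr0 => hMmin j (by omega) (by rw [← e, hr0, zero_smul, zero_add]; exact hq)
    have h2 : cI (j + 1) = r⁻¹ • v - r⁻¹ • q := by
      rw [← e, smul_add, inv_smul_smul₀ hr, add_sub_cancel_right]
    rw [h2]
    exact sub_mem (Submodule.smul_mem _ _ (Submodule.mem_sup_left (Submodule.mem_span_singleton_self v)))
      (Submodule.smul_mem _ _ (Submodule.mem_sup_right hq))
  · rintro ⟨l, hlm, rfl⟩ hmem
    obtain ⟨p, hp, q, hq, e⟩ := Submodule.mem_sup.1 hmem
    obtain ⟨r, rfl⟩ := Submodule.mem_span_singleton.1 hp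
    have hjump : cI (J l + 1) ∉ S (J l) := (hJ.2 (J l)).1 ⟨l, rfl⟩
    have hr : r ≠ 0 := fun hr0 => hjump (by rw [← e, hr0, zero_smul, zero_add]; exact hq)
    have h1 : v ∈ S (J l + 1) := by
      have : v = r⁻¹ • (cI (J l + 1) - q) := by rw [← e, add_sub_cancel_right, inv_smul_smul₀ hr]
      rw [this, hS]
      exact Submodule.smul_mem _ _ (sub_mem (Submodule.mem_sup_left (Submodule.mem_span_singleton_self _))
        (Submodule.mem_sup_right hq))
    have hle : M ≤ J l + 1 := Nat.find_le h1
    have hne : J l ≠ J m := fun e => hlm (hJ.1.injective e)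
    have hvS : v ∈ S (J l) := by
      refine Submodule.span_mono (Set.image_mono (Set.Iio_subset_Iio ?_)) hMspec
      omega
    exact hjump (by rw [← e]; exact add_mem (Submodule.smul_mem _ _ hvS) hq)

end Groth.Funfld2.Hasse
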