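import Groth.Agent.Funfld2.Found
import Groth.Agent.Funfld2.Hasse.Expansion
import Groth.Agent.Funfld2.Hasse.Orders

/-! Orders of a projective map at a place; adapted bases. -/

open FunFld
open scoped LaurentSeries WithZero

namespace Groth.Funfld2.Hasse

variable {k K : Type*} [Field k] [Field K] [Algebra k K] {P : Place k K} {t : K}
  (hdeg : P.deg = 1) (ht : P.1 t = WithZero.exp (-1))

theorem val_le_exp_iff_coeff (z : K) (m : ℤ) :
    P.1 z ≤ WithZero.exp (-m) ↔ ∀ i < m, (expansion hdeg ht z).coeff i = 0 := by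
  rw [← val_expansion hdeg ht z]
  exact LaurentSeries.valuation_le_iff_coeff_lt_eq_zero k

theorem val_le_one_iff_coeff (z : K) :
    P.1 z ≤ 1 ↔ ∀ i < 0, (expansion hdeg ht z).coeff i = 0 := by
  rw [← val_le_exp_iff_coeff hdeg ht z 0, neg_zero, WithZero.exp_zero]

theorem val_eq_exp_iff_coeff (z : K) (m : ℤ) : P.1 z = WithZero.exp (-m) ↔
    (∀ i < m, (expansion hdeg ht z).coeff i = 0) ∧ (expansion hdeg ht z).coeff m ≠ 0 := by
  constructor
  · intro h
    have h0 := (val_le_exp_iff_coeff hdeg ht z m).1 h.le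
    refine ⟨h0, fun hm => ?_⟩
    have h1 := (val_le_exp_iff_coeff hdeg ht z (m + 1)).2 fun i hi => by
      rcases (Int.lt_add_one_iff.1 hi).lt_or_eq with hl | he
      · exact h0 i hl
      · rw [he]; exact hm
    rw [h, WithZero.exp_le_exp] at h1
    omega
  · rintro ⟨h0, hm⟩
    have hz : z ≠ 0 := fun e => hm (by rw [e, map_zero]; rfl)
    have h1 := (val_le_exp_iff_coeff hdeg ht z m).2 h0
    rw [val_le_exp_iff P hz, neg_neg] at h1
    have h2 : ¬ m + 1 ≤ P.ord z := by
      intro hc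
      refine hm ((val_le_exp_iff_coeff hdeg ht z (m + 1)).1 ?_ m (by omega))
      rw [val_le_exp_iff P hz]
      omega
    rw [val_eq_exp_ord P hz, show P.ord z = m by omega]

theorem evalP_eq_coeff {z : K} (hz : P.1 z ≤ 1) :
    evalP P z = algebraMap k (IsLocalRing.ResidueField P.O) ((expansion hdeg ht z).coeff 0) := by
  rw [evalP, dif_pos hz]
  have h := (coeff_zero_expansion hdeg ht hz _).1 rfl
  symm
  change IsLocalRing.residue P.O (algebraMap k P.O _) = IsLocalRing.residue P.O _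
  refine Ideal.Quotient.eq.2 ?_
  rw [← neg_mem_iff, neg_sub, Valuation.mem_maximalIdeal_iff]
  exact h

include hdeg in
theorem residue_bijective :
    Function.Bijective (algebraMap k (IsLocalRing.ResidueField P.O)) := by
  refine ⟨(algebraMap k _).injective, fun y => ?_⟩
  have hbt : (⊥ : Subalgebra k (IsLocalRing.ResidueField P.O)) = ⊤ :=
    Subalgebra.bot_eq_top_of_finrank_eq_one hdeg
  exact Algebra.mem_bot.1 (hbt ▸ Algebra.mem_top : y ∈ (⊥ : Subalgebra k _))

variable {H : K →ₐ[k] PowerSeries K}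
  [Algebra.IsSeparable (IntermediateField.adjoin k ({t} : Set K)) K] (hH : LocRes.IsHasseFamily t H)

include hH

theorem expansion_hasseD (m : ℕ) (z : K) :
    expansion hdeg ht (LocRes.hasseD H m z) = LaurentSeries.hasseDeriv k m (expansion hdeg ht z) :=
  map_hasseD_eq hH (expansion hdeg ht).toRingHom (fun c => ⟨c, LocRes.map_algebraMap _ c⟩)
    (a := 0) (by rw [map_zero, zero_add]; exact expansion_self hdeg ht) m z

theorem coeff_expansion_hasseD (m : ℕ) (z : K) (i : ℤ) :
    (expansion hdeg ht (LocRes.hasseD H m z)).coeff i =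
      Ring.choose (i + m) m • (expansion hdeg ht z).coeff (i + m) := by
  rw [expansion_hasseD hdeg ht hH, LaurentSeries.hasseDeriv_coeff]

theorem coeff_zero_hasseD (m : ℕ) (z : K) :
    (expansion hdeg ht (LocRes.hasseD H m z)).coeff 0 = (expansion hdeg ht z).coeff (m : ℤ) := by
  rw [coeff_expansion_hasseD hdeg ht hH, zero_add, Ring.choose_natCast, Nat.choose_self,
    Nat.cast_one, one_smul]

include hdeg ht in
theorem val_hasseD_le_one (m : ℕ) {z : K} (hz : P.1 z ≤ 1) : P.1 (LocRes.hasseD H m z) ≤ 1 := by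
  rw [val_le_one_iff_coeff hdeg ht] at hz ⊢
  intro i hi
  rw [coeff_expansion_hasseD hdeg ht hH]
  rcases lt_or_ge (i + m) 0 with h | h
  · rw [hz _ h, smul_zero]
  · obtain ⟨j, hj⟩ := Int.eq_ofNat_of_zero_le h
    rw [hj, Ring.choose_natCast, Nat.choose_eq_zero_of_lt (by omega), Nat.cast_zero, zero_smul]

omit hH [Algebra.IsSeparable (IntermediateField.adjoin k ({t} : Set K)) K]

/-- The Taylor coefficients, as columns indexed like `hcolAt`. -/
noncomputable def coefCol {ι : Type*} (φ : ι → K) (j : ℕ) (i : ι) : k :=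
  (expansion hdeg ht (φ i)).coeff ((j - 1 : ℕ) : ℤ)

@[simp] theorem coefCol_zero {ι : Type*} (φ : ι → K) :
    coefCol hdeg ht φ 0 = fun i => (expansion hdeg ht (φ i)).coeff 0 := rfl

@[simp] theorem coefCol_succ {ι : Type*} (φ : ι → K) (j : ℕ) :
    coefCol hdeg ht φ (j + 1) = fun i => (expansion hdeg ht (φ i)).coeff (j : ℤ) := by
  funext i; simp [coefCol]

include hH in
theorem hcolAt_eq [Algebra.IsSeparable (IntermediateField.adjoin k ({t} : Set K)) K] {ι : Type*}
    {φ : ι → K} (hφ : ∀ i, P.1 (φ i) ≤ 1) (j : ℕ) :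
    hcolAt P H φ j = fun i => algebraMap k _ (coefCol hdeg ht φ j i) := by
  funext i
  rcases j with _ | j
  · exact evalP_eq_coeff hdeg ht (hφ i)
  · simp only [hcolAt, coefCol_succ]
    rw [evalP_eq_coeff hdeg ht (val_hasseD_le_one hdeg ht hH j (hφ i)),
      coeff_zero_hasseD hdeg ht hH]

theorem isJump_map_iff {R S : Type*} [Field R] [Field S] [Algebra R S]
    (hbij : Function.Bijective (algebraMap R S)) {ι : Type*} (c : ℕ → ι → R) (j : ℕ) :
    IsJump S (fun j i => algebraMap R S (c j i)) j ↔ IsJump R c j := by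
  let g : (ι → R) →ₗ[R] (ι → S) := LinearMap.compLeft (Algebra.linearMap R S) ι
  have hg : Function.Injective g := fun a b h => funext fun i => hbij.1 (congrFun h i)
  have himg : (fun j i => algebraMap R S (c j i)) '' Set.Iio j = g '' (c '' Set.Iio j) := by
    rw [← Set.image_comp]; rfl
  unfold IsJump
  rw [himg, ← Submodule.restrictScalars_mem R, Submodule.restrictScalars_span R S hbij.2]
  change g (c j) ∉ Submodule.span R (g '' (c '' Set.Iio j)) ↔ _
  rw [← Submodule.map_span, Submodule.mem_map]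
  exact not_congr ⟨fun ⟨y, hy, e⟩ => hg e ▸ hy, fun h => ⟨_, h, rfl⟩⟩

include hH in
theorem isJump_hcolAt_iff [Algebra.IsSeparable (IntermediateField.adjoin k ({t} : Set K)) K]
    {ι : Type*} {φ : ι → K} (hφ : ∀ i, P.1 (φ i) ≤ 1) (j : ℕ) :
    IsJump (IsLocalRing.ResidueField P.O) (hcolAt P H φ) j ↔ IsJump k (coefCol hdeg ht φ) j := by
  rw [show hcolAt P H φ = fun j i => algebraMap k _ (coefCol hdeg ht φ j i) from
    funext (hcolAt_eq hdeg ht hH hφ), isJump_map_iff (residue_bijective hdeg)]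

include hH in
theorem isOrders_hcolAt_iff [Algebra.IsSeparable (IntermediateField.adjoin k ({t} : Set K)) K]
    {n : ℕ} {φ : Fin (n + 1) → K} (hφ : ∀ i, P.1 (φ i) ≤ 1) (J : Fin n → ℕ) :
    IsOrders (IsLocalRing.ResidueField P.O) (hcolAt P H φ) J ↔
      IsOrders k (coefCol hdeg ht φ) J := by
  simp only [IsOrders, isJump_hcolAt_iff hdeg ht hH hφ]

theorem zero_notMem_orders {n : ℕ} {φ : Fin (n + 1) → K} {J : Fin n → ℕ}
    (hJ : IsOrders k (coefCol hdeg ht φ) J) (l : Fin n) : 0 < J l := by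
  refine Nat.pos_of_ne_zero fun e => (hJ.2 0).1 ⟨l, e⟩ ?_
  exact Submodule.subset_span ⟨0, by simp, by simp⟩

theorem exists_functional {V : Type*} [AddCommGroup V] [Module k V] {W : Submodule k V} {v : V}
    (hv : v ∉ W) : ∃ f : V →ₗ[k] k, (∀ w ∈ W, f w = 0) ∧ f v = 1 := by
  obtain ⟨f, hf, hW⟩ := Submodule.exists_dual_map_eq_bot_of_notMem hv inferInstance
  refine ⟨(f v)⁻¹ • f, fun w hw => ?_, ?_⟩
  · have : f w ∈ W.map f := Submodule.mem_map_of_mem hw
    rw [hW, Submodule.mem_bot] at this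
    simp [this]
  · simp [inv_mul_cancel₀ hf]

/-- The coefficients of a member of the span. -/
theorem coeff_sum_smul {ι : Type*} [Fintype ι] (a : ι → k) (φ : ι → K) (i : ℤ) :
    (expansion hdeg ht (∑ l, a l • φ l)).coeff i = ∑ l, a l * (expansion hdeg ht (φ l)).coeff i := by
  rw [map_sum, HahnSeries.coeff_sum]
  exact Finset.sum_congr rfl fun l _ => by
    rw [Algebra.smul_def, map_mul, LocRes.map_algebraMap, HahnSeries.C_mul_eq_smul]; simp

theorem exists_mem_span_of_jump {n : ℕ} {φ : Fin (n + 1) → K} (hφ : ∀ i, P.1 (φ i) ≤ 1) {j : ℕ}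
    (hj : IsJump k (coefCol hdeg ht φ) (j + 1)) :
    ∃ g ∈ Submodule.span k (Set.range φ), P.1 g = WithZero.exp (-(j : ℤ)) ∧
      (expansion hdeg ht g).coeff (j : ℤ) = 1 := by
  obtain ⟨f, hf0, hf1⟩ := exists_functional hj
  have hsum : ∀ v : Fin (n + 1) → k, f v = ∑ i, f (fun j => if i = j then 1 else 0) * v i := by
    intro v
    rw [LinearMap.pi_apply_eq_sum_univ f v]
    exact Finset.sum_congr rfl fun i _ => by rw [smul_eq_mul, mul_comm]
  let a : Fin (n + 1) → k := fun i => f (fun j => if i = j then 1 else 0)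
  have hco : ∀ i : ℕ, (expansion hdeg ht (∑ l, a l • φ l)).coeff (i : ℤ) =
      f (coefCol hdeg ht φ (i + 1)) := by
    intro i
    rw [coeff_sum_smul, hsum, coefCol_succ]
  have h1 : (expansion hdeg ht (∑ l, a l • φ l)).coeff (j : ℤ) = 1 := by rw [hco, hf1]
  refine ⟨_, Submodule.sum_mem _ fun l _ => Submodule.smul_mem _ _ (Submodule.subset_span ⟨l, rfl⟩),
    (val_eq_exp_iff_coeff hdeg ht _ _).2 ⟨fun i hi => ?_, by rw [h1]; exact one_ne_zero⟩, h1⟩
  rcases lt_or_ge i 0 with h | h
  · rw [coeff_sum_smul]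
    refine Finset.sum_eq_zero fun l _ => ?_
    rw [(val_le_one_iff_coeff hdeg ht _).1 (hφ l) i h, mul_zero]
  · obtain ⟨i, rfl⟩ := Int.eq_ofNat_of_zero_le h
    rw [hco]
    exact hf0 _ (Submodule.subset_span (Set.mem_image_of_mem _ (by simp; omega)))

theorem jump_of_mem_span {n : ℕ} {φ : Fin (n + 1) → K} {j : ℕ} {f : K}
    (hf : f ∈ Submodule.span k (Set.range φ)) (hv : P.1 f = WithZero.exp (-(j : ℤ))) (hj : j ≠ 0) :
    IsJump k (coefCol hdeg ht φ) (j + 1) := by
  obtain ⟨a, rfl⟩ := (Submodule.mem_span_range_iff_exists_fun k).1 hf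
  obtain ⟨hlt, hne⟩ := (val_eq_exp_iff_coeff hdeg ht _ _).1 hv
  intro hmem
  let g : (Fin (n + 1) → k) →ₗ[k] k := ∑ l, a l • LinearMap.proj l
  have hg : ∀ v, g v = ∑ l, a l * v l := fun v => by simp [g]
  have hle : Submodule.span k (coefCol hdeg ht φ '' Set.Iio (j + 1)) ≤ LinearMap.ker g := by
    rw [Submodule.span_le]
    rintro _ ⟨m, hm, rfl⟩
    rw [SetLike.mem_coe, LinearMap.mem_ker, hg]
    have := hlt ((m - 1 : ℕ) : ℤ) (by simp at hm; omega)
    rwa [coeff_sum_smul] at this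
  have := hle hmem
  rw [LinearMap.mem_ker, hg, coefCol_succ] at this
  exact hne (by rwa [coeff_sum_smul])

include hdeg ht in
theorem linearIndependent_of_orders {n : ℕ} {J : Fin n → ℕ} (hJ : StrictMono J)
    (hpos : ∀ l, 0 < J l) {ψ : Fin (n + 1) → K} (h0 : P.1 (ψ 0) = 1)
    (hl : ∀ l, P.1 (ψ l.succ) = WithZero.exp (-(J l : ℤ))) : LinearIndependent k ψ := by
  let d : Fin (n + 1) → ℕ := Fin.cons 0 J
  have hd : StrictMono d := by
    intro a b hab
    cases b using Fin.cases with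
    | zero => exact absurd hab (Fin.not_lt.2 (Fin.zero_le a))
    | succ b =>
      cases a using Fin.cases with
      | zero => simpa [d] using hpos b
      | succ a => simpa [d] using hJ (Fin.succ_lt_succ_iff.1 hab)
  have hv : ∀ i, P.1 (ψ i) = WithZero.exp (-(d i : ℤ)) := by
    intro i
    cases i using Fin.cases with
    | zero => simp [d, h0]
    | succ i => simp [d, hl]
  rw [Fintype.linearIndependent_iff]
  intro a ha
  classical
  by_contra! hne
  obtain ⟨i₀, hi₀, hmin⟩ := (Finset.univ.filter fun i => a i ≠ 0).exists_min_image d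
    ⟨hne.choose, by simp [hne.choose_spec]⟩
  simp only [Finset.mem_filter, Finset.mem_univ, true_and] at hi₀ hmin
  have hc := congrArg (fun z => (expansion hdeg ht z).coeff (d i₀ : ℤ)) ha
  simp only [coeff_sum_smul, map_zero] at hc
  rw [Finset.sum_eq_single i₀ (fun i _ hi => ?_) (by simp)] at hc
  · exact mul_ne_zero hi₀ ((val_eq_exp_iff_coeff hdeg ht _ _).1 (hv i₀)).2 (by simpa using hc)
  · by_cases hai : a i = 0
    · rw [hai, zero_mul]
    · rw [((val_eq_exp_iff_coeff hdeg ht _ _).1 (hv i)).1 _ ?_, mul_zero]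
      exact_mod_cast lt_of_le_of_ne (hmin i hai) fun e => hi (hd.injective e).symm

include ht in
theorem val_div_t_pow {g : K} {j : ℕ} (hg : P.1 g = WithZero.exp (-(j : ℤ))) :
    P.1 (g / t ^ j) = 1 := by
  rw [map_div₀, hg, val_t_pow ht, div_self WithZero.exp_ne_zero]

theorem evalP_div_t_pow {g : K} {j : ℕ} (hg : P.1 g = WithZero.exp (-(j : ℤ)))
    (h1 : (expansion hdeg ht g).coeff (j : ℤ) = 1) : evalP P (g / t ^ j) = 1 := by
  rw [evalP_eq_coeff hdeg ht (val_div_t_pow ht hg).le]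
  suffices (expansion hdeg ht (g / t ^ j)).coeff 0 = 1 by rw [this, map_one]
  have ht0 : t ≠ 0 := fun e => by rw [e, map_zero] at ht; exact WithZero.exp_ne_zero ht.symm
  have e : expansion hdeg ht g = expansion hdeg ht (g / t ^ j) * HahnSeries.single (j : ℤ) 1 := by
    conv_lhs => rw [← div_mul_cancel₀ g (pow_ne_zero j ht0)]
    rw [map_mul, map_pow, expansion_self, HahnSeries.single_pow, nsmul_eq_mul, mul_one, one_pow]
  rw [e] at h1
  have h2 := HahnSeries.coeff_mul_single_add (r := (1 : k))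
    (x := expansion hdeg ht (g / t ^ j)) (a := (0 : ℤ)) (b := (j : ℤ))
  rw [zero_add, mul_one, h1] at h2
  exact h2.symm

/-- An adapted basis of the span of a normalized effective tuple. -/
theorem exists_adapted {n : ℕ} {φ : Fin (n + 1) → K} (hφ : LinearIndependent k φ)
    (heff : (1 : K) ∈ Submodule.span k (Set.range φ)) (hnorm : ∀ i, P.1 (φ i) ≤ 1) {J : Fin n → ℕ}
    (hJ : IsOrders k (coefCol hdeg ht φ) J) :
    ∃ ψ : Fin (n + 1) → K, LinearIndependent k ψ ∧
      Submodule.span k (Set.range ψ) = Submodule.span k (Set.range φ) ∧ ψ 0 = 1 ∧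
      ∀ l, P.1 (ψ l.succ) = WithZero.exp (-(J l : ℤ)) ∧
        (expansion hdeg ht (ψ l.succ)).coeff (J l : ℤ) = 1 := by
  choose g hg hv h1 using fun l => exists_mem_span_of_jump hdeg ht hnorm ((hJ.2 (J l)).1 ⟨l, rfl⟩)
  let ψ : Fin (n + 1) → K := Fin.cons 1 g
  have hli : LinearIndependent k ψ := linearIndependent_of_orders hdeg ht hJ.1
    (zero_notMem_orders hdeg ht hJ) (ψ := ψ) (by simp [ψ]) (by simp [ψ, hv])
  refine ⟨ψ, hli, ?_, by simp [ψ], fun l => ⟨by simp [ψ, hv], by simp [ψ, h1]⟩⟩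
  have := FiniteDimensional.span_of_finite k (Set.finite_range φ)
  refine Submodule.eq_of_le_of_finrank_eq (Submodule.span_le.2 ?_) ?_
  · rintro _ ⟨i, rfl⟩
    cases i using Fin.cases with
    | zero => simpa [ψ] using heff
    | succ i => simpa [ψ] using hg i
  · rw [finrank_span_eq_card hli, finrank_span_eq_card hφ]

theorem mem_orders_iff {n : ℕ} {φ : Fin (n + 1) → K}
    (heff : (1 : K) ∈ Submodule.span k (Set.range φ)) (hnorm : ∀ i, P.1 (φ i) ≤ 1) {J : Fin n → ℕ}
    (hJ : IsOrders k (coefCol hdeg ht φ) J) (j : ℕ) :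
    (j = 0 ∨ j ∈ Set.range J) ↔
      ∃ f ∈ Submodule.span k (Set.range φ), P.1 f = WithZero.exp (-(j : ℤ)) := by
  constructor
  · rintro (rfl | hj)
    · exact ⟨1, heff, by simp⟩
    · obtain ⟨g, hg, hv, -⟩ := exists_mem_span_of_jump hdeg ht hnorm ((hJ.2 j).1 hj)
      exact ⟨g, hg, hv⟩
  · rintro ⟨f, hf, hv⟩
    exact (em (j = 0)).imp_right fun hj => (hJ.2 j).2 (jump_of_mem_span hdeg ht hf hv hj)

include hdeg ht in
/-- A nonsingular normalized effective tuple has an entry of order one in its span. -/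
theorem first_order_eq_one {n : ℕ} (hn : 0 < n) {φ : Fin (n + 1) → K}
    (heff : (1 : K) ∈ Submodule.span k (Set.range φ)) (hnorm : ∀ i, P.1 (φ i) ≤ 1)
    (hns : IsNonsingularAt φ P) {J : Fin n → ℕ} (hJ : IsOrders k (coefCol hdeg ht φ) J) :
    J ⟨0, hn⟩ = 1 := by
  by_contra hne
  have hgt : 1 < J ⟨0, hn⟩ := by have := zero_notMem_orders hdeg ht hJ ⟨0, hn⟩; omega
  have hnj : ¬ IsJump k (coefCol hdeg ht φ) 2 := by
    intro h
    obtain ⟨l, hl⟩ := (hJ.2 1).2 h
    have := hJ.1.monotone (show (⟨0, hn⟩ : Fin n) ≤ l from Fin.le_def.2 (Nat.zero_le _))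
    omega
  rw [IsJump, not_not] at hnj
  have himg : coefCol hdeg ht φ '' Set.Iio 2 = {coefCol hdeg ht φ 0} := by
    ext x
    simp only [Set.mem_image, Set.mem_Iio, Set.mem_singleton_iff]
    constructor
    · rintro ⟨i, hi, rfl⟩
      interval_cases i
      · rfl
      · simp
    · rintro rfl; exact ⟨0, by omega, rfl⟩
  rw [himg, Submodule.mem_span_singleton] at hnj
  obtain ⟨c, hc⟩ := hnj
  obtain ⟨a, ha⟩ := (Submodule.mem_span_range_iff_exists_fun k).1 heff
  have he : ∀ i, c * (expansion hdeg ht (φ i)).coeff 0 = (expansion hdeg ht (φ i)).coeff 1 := by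
    intro i
    have := congrFun hc i
    simpa [coefCol] using this
  have hc0 : c = 0 := by
    have h0 := coeff_sum_smul hdeg ht a φ 0
    have h1 := coeff_sum_smul hdeg ht a φ 1
    rw [ha, map_one] at h0 h1
    simp only [← he, mul_left_comm (a _), ← Finset.mul_sum, ← h0] at h1
    simpa using h1.symm
  obtain ⟨j, hj0, hjmax, u, hu, w, hw, hw1, huw⟩ := hns t (by
    rw [ht, ← WithZero.exp_zero, WithZero.exp_le_exp]; norm_num)
  -- series with vanishing linear coefficient form a subalgebra containing the ratios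
  let S : Subalgebra k K :=
    { carrier := {z | ∃ f : PowerSeries k, PowerSeries.coeff 1 f = 0 ∧
        expansion hdeg ht z = HahnSeries.ofPowerSeries ℤ k f}
      mul_mem' := by
        rintro x y ⟨f, hf, hx⟩ ⟨g, hg, hy⟩
        refine ⟨f * g, ?_, by rw [map_mul, hx, hy, map_mul]⟩
        rw [PowerSeries.coeff_mul, Finset.Nat.sum_antidiagonal_succ, Finset.Nat.antidiagonal_zero,
          Finset.sum_singleton]
        simp [hf, hg]
      add_mem' := by
        rintro x y ⟨f, hf, hx⟩ ⟨g, hg, hy⟩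
        exact ⟨f + g, by simp [hf, hg], by rw [map_add, hx, hy, map_add]⟩
      algebraMap_mem' := fun a => ⟨PowerSeries.C a, by simp [PowerSeries.coeff_C],
        by rw [LocRes.map_algebraMap, HahnSeries.ofPowerSeries_C]; rfl⟩ }
  have hser : ∀ i, ∃ f : PowerSeries k, PowerSeries.coeff 1 f = 0 ∧
      expansion hdeg ht (φ i) = HahnSeries.ofPowerSeries ℤ k f := by
    intro i
    refine ⟨_, ?_, expansion_of_le_one hdeg ht (hnorm i)⟩
    rw [← HahnSeries.ofPowerSeries_apply_coeff (Γ := ℤ), ← expansion_of_le_one hdeg ht (hnorm i)]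
    push_cast
    rw [← he, hc0, zero_mul]
  obtain ⟨fj, hfj1, hfj⟩ := hser j
  have hfj0 : PowerSeries.constantCoeff fj ≠ 0 := by
    intro h0
    have h2 : ∀ i, (expansion hdeg ht (φ i)).coeff 0 = 0 := by
      intro i
      have hlt : P.1 (φ j) < 1 := by
        refine lt_of_le_of_ne (hnorm j) fun e1 => ?_
        have := ((val_eq_exp_iff_coeff hdeg ht (φ j) 0).1 (by simpa using e1)).2
        rw [hfj, show (0 : ℤ) = ((0 : ℕ) : ℤ) from rfl, HahnSeries.ofPowerSeries_apply_coeff,
          PowerSeries.coeff_zero_eq_constantCoeff_apply, h0] at this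
        exact this rfl
      exact (coeff_zero_expansion hdeg ht (hnorm i) 0).2 (by
        simpa using (hjmax i).trans_lt hlt)
    have h3 := coeff_sum_smul hdeg ht a φ 0
    rw [ha, map_one] at h3
    simp [h2] at h3
  have hS : Algebra.adjoin k (Set.range fun i => φ i / φ j) ≤ S := by
    refine Algebra.adjoin_le ?_
    rintro _ ⟨i, rfl⟩
    obtain ⟨fi, hfi1, hfi⟩ := hser i
    refine ⟨fi * fj⁻¹, ?_, ?_⟩
    · have h2 := congrArg (PowerSeries.coeff 1)
        (show fi * fj⁻¹ * fj = fi by rw [mul_assoc, PowerSeries.inv_mul_cancel _ hfj0, mul_one])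
      rw [PowerSeries.coeff_mul, Finset.Nat.sum_antidiagonal_succ, Finset.Nat.antidiagonal_zero,
        Finset.sum_singleton] at h2
      simp only [zero_add, hfj1, mul_zero, hfi1, PowerSeries.coeff_zero_eq_constantCoeff_apply] at h2
      exact (mul_eq_zero.1 h2).resolve_right hfj0
    · have hne' : HahnSeries.ofPowerSeries ℤ k fj ≠ 0 := by
        rw [← hfj]; simpa using hj0
      change expansion hdeg ht (φ i / φ j) = _
      rw [map_div₀, hfi, hfj, div_eq_iff hne', ← map_mul, mul_assoc,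
        PowerSeries.inv_mul_cancel _ hfj0, mul_one]
  obtain ⟨fu, hfu1, hfu⟩ := hS hu
  obtain ⟨fw, -, hfw⟩ := hS hw
  have h4 := ((val_eq_exp_iff_coeff hdeg ht w 0).1 (by simpa using hw1)).2
  rw [hfw, show (0 : ℤ) = ((0 : ℕ) : ℤ) from rfl, HahnSeries.ofPowerSeries_apply_coeff] at h4
  have h5 := congrArg (expansion hdeg ht) huw
  rw [map_mul, expansion_self, hfw, hfu, ← HahnSeries.ofPowerSeries_X, ← map_mul] at h5
  have h6 := congrArg (PowerSeries.coeff 1) (HahnSeries.ofPowerSeries_injective h5)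
  rw [hfu1, PowerSeries.coeff_succ_X_mul] at h6
  exact h4 h6

end Groth.Funfld2.Hasse
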