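import Groth.Agent.Funfld2.Hasse.DegreeW
import Groth.Agent.FunFld1.Gaps

/-! The canonical map: orders and gaps, weights of Weierstrass points. -/

open FunFld Groth.FunFld1
open scoped LaurentSeries WithZero

namespace Groth.Funfld2.Hasse

variable {k K : Type*} [Field k] [IsAlgClosed k] [Field K] [Algebra k K]
  (hK : IsFunctionField k K)

/-- `m` is a gap number at `P`. -/
def Gap (P : Place k K) (m : ℕ) : Prop :=
  L (Finsupp.single P (m : ℤ)) = L (Finsupp.single P ((m : ℤ) - 1))

theorem L_sub_div {C : Divisor k K} {y : K} (hF : IsFF k K) (hy : y ≠ 0) :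
    (L C).map (LinearMap.mulLeft k y) = L (C - FunFld.div k y) := by
  ext f
  rw [Submodule.mem_map]
  constructor
  · rintro ⟨g, hg, rfl⟩ Q
    rw [LinearMap.mulLeft_apply, map_mul, val_eq_exp_neg_ord Q hy, Finsupp.sub_apply, hF.div_apply]
    refine (mul_le_mul' le_rfl (hg Q)).trans_eq ?_
    rw [← WithZero.exp_add]
    congr 1
    ring
  · intro hf
    refine ⟨y⁻¹ * f, fun Q => ?_, by rw [LinearMap.mulLeft_apply, mul_inv_cancel_left₀ hy]⟩
    rw [map_mul, map_inv₀, val_eq_exp_neg_ord Q hy, ← WithZero.exp_neg]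
    refine (mul_le_mul' le_rfl (hf Q)).trans_eq ?_
    rw [← WithZero.exp_add, Finsupp.sub_apply, hF.div_apply]
    congr 1
    ring

include hK

theorem isCanonical_sub_div {C : Divisor k K} (hC : IsCanonical k K C) {y : K} (hy : y ≠ 0) :
    IsCanonical k K (C - FunFld.div k y) := by
  obtain ⟨ω, h0, hω⟩ := hC
  have hF := IsFF.of_isFunctionField hK
  have h := hF.isDivOf_mulW (inv_ne_zero hy) (fun _ => hF.smul_mem_adele _) hω
  rw [hF.div_inv, ← sub_eq_add_neg] at h
  exact ⟨_, hF.ne_zero_of_isDivOf h, h⟩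

/-- Some function in `L(C)` attains the bound at `P`. -/
theorem exists_ord_eq_neg {C : Divisor k K} (hC : IsCanonical k K C) (hg : 0 < genus k K)
    (P : Place k K) : ∃ f ∈ L C, f ≠ 0 ∧ P.ord f = -C P := by
  have hdeg : P.deg = 1 := (good_of_algClosed hK).deg_one P
  have hF := IsFF.of_isFunctionField hK
  have h1 := riemann_roch hK hC (Finsupp.single P 1)
  rw [ell_single_one_eq_one hK hg hdeg, deg_single, hdeg] at h1
  have hle : L (C - Finsupp.single P 1) ≤ L C :=
    L_mono (sub_le_self C (Finsupp.single_nonneg.2 zero_le_one))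
  have hne : L (C - Finsupp.single P 1) ≠ L C := fun e => by
    have h2 : ell (C - Finsupp.single P 1) = ell C := by rw [ell, ell, e]
    rw [h2, ell_canonical hK hC] at h1
    omega
  obtain ⟨f, hf, hf'⟩ := SetLike.exists_of_lt (lt_of_le_of_ne hle hne)
  have hf0 : f ≠ 0 := fun e => hf' (e ▸ zero_mem _)
  refine ⟨f, hf, hf0, ?_⟩
  rw [Groth.Funfld2.mem_L_sub_single_iff zero_le_one, Groth.Funfld2.val_le_exp_iff P hf0] at hf'
  have h2 := (Groth.Funfld2.mem_L_iff_ord hf0).1 hf P
  have h3 : ¬ -(C P - 1) ≤ P.ord f := fun e => hf' ⟨hf, e⟩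
  omega

theorem genus_pos_of_basis {C : Divisor k K} (hC : IsCanonical k K C) {n : ℕ} {φ : Fin (n + 1) → K}
    (hφ : LinearIndependent k φ) (hspan : Submodule.span k (Set.range φ) = L C) :
    genus k K = n + 1 := by
  rw [← ell_canonical hK hC, ell, ← hspan, finrank_span_eq_card hφ, Fintype.card_fin]

theorem mapDiv_canonical {C : Divisor k K} (hC : IsCanonical k K C) {n : ℕ} {φ : Fin (n + 1) → K}
    (hφ : LinearIndependent k φ) (hspan : Submodule.span k (Set.range φ) = L C) :
    mapDiv k φ = C := by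
  have hF := IsFF.of_isFunctionField hK
  have hg : 0 < genus k K := by rw [genus_pos_of_basis hK hC hφ hspan]; omega
  ext P
  obtain ⟨f, hf, hf0, hford⟩ := exists_ord_eq_neg hK hC hg P
  obtain ⟨i, hi⟩ := hF.exists_ord_eq_neg_mapDiv φ P
  have hφi : φ i ∈ L C := hspan ▸ Submodule.subset_span ⟨i, rfl⟩
  have h1 := (Groth.Funfld2.mem_L_iff_ord (hφ.ne_zero i)).1 hφi P
  obtain ⟨a, ha⟩ := (Submodule.mem_span_range_iff_exists_fun k).1 (hspan.symm ▸ hf)
  have h2 : P.1 f ≤ WithZero.exp (mapDiv k φ P) := by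
    rw [← ha]
    refine P.1.map_sum_le fun j _ => ?_
    rw [Algebra.smul_def, map_mul]
    refine (mul_le_of_le_one_left' (P.2.1 (a j))).trans ?_
    rw [Groth.Funfld2.val_le_exp_iff P (hφ.ne_zero j)]
    exact hF.ord_ge_neg_mapDiv φ P j
  rw [Groth.Funfld2.val_le_exp_iff P hf0] at h2
  omega

variable {C : Divisor k K} (hC : IsCanonical k K C) {n : ℕ} {φ : Fin (n + 1) → K}
  (hφ : LinearIndependent k φ) (hspan : Submodule.span k (Set.range φ) = L C) {P : Place k K}
  {t : K} (ht : P.1 t = WithZero.exp (-1)) {Ht : K →ₐ[k] PowerSeries K}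
  (hHt : LocRes.IsHasseFamily t Ht) {y : K} (hy : y ≠ 0)
  (heff : (1 : K) ∈ Submodule.span k (Set.range (y • φ))) (hnorm : ∀ i, P.1 (y * φ i) ≤ 1)

include hC hφ hspan ht hHt hy heff hnorm

/-- Canonical orders at `P` and gaps at `P`. -/
theorem isJump_canonical_iff {j : ℕ} (hj : 1 ≤ j) :
    IsJump (IsLocalRing.ResidueField P.O) (hcolAt P Ht (y • φ)) (j + 1) ↔ Gap P (j + 1) := by
  have hG := good_of_algClosed hK
  have hdeg : P.deg = 1 := hG.deg_one P
  have hsep := isSeparable_of_hasse hK hHt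
  have hF := IsFF.of_isFunctionField hK
  have hψ := linearIndependent_smul hφ hy
  have hnorm' : ∀ i, P.1 ((y • φ) i) ≤ 1 := hnorm
  obtain ⟨J, hJ⟩ := exists_coef_orders hdeg ht hψ heff hnorm'
  rw [isJump_hcolAt_iff hdeg ht hHt hnorm', ← hJ.2 j]
  set C' := C - FunFld.div k y with hC'def
  have hC' : IsCanonical k K C' := isCanonical_sub_div hK hC hy
  have hspan' : Submodule.span k (Set.range (y • φ)) = L C' := by
    rw [hC'def, ← L_sub_div hF hy, ← hspan, Submodule.map_span, ← Set.range_comp]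
    rfl
  have hC'P : C' P = 0 := by
    rw [← mapDiv_canonical hK hC' hψ hspan']
    exact mapDiv_apply_eq_zero hG hψ.ne_zero hnorm' (exists_val_eq_one heff hnorm')
  have key := mem_orders_iff hdeg ht heff hnorm' hJ j
  rw [or_iff_right (by omega : j ≠ 0), hspan'] at key
  rw [key]
  set A := C' - Finsupp.single P (j : ℤ) with hA
  set B := C' - Finsupp.single P ((j : ℤ) + 1) with hB
  have hfinA := hF.finiteDimensional_L A
  have hBA : L B ≤ L A := L_mono (sub_le_sub_left (Finsupp.single_le_single.2 (by omega)) C')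
  have h1 := riemann_roch hK hC' (Finsupp.single P (j : ℤ))
  have h2 := riemann_roch hK hC' (Finsupp.single P ((j : ℤ) + 1))
  rw [deg_single, hdeg] at h1 h2
  rw [← hA] at h1
  rw [← hB] at h2
  push_cast at h1 h2
  have hle : L (Finsupp.single P (j : ℤ)) ≤ L (Finsupp.single P ((j : ℤ) + 1)) :=
    L_mono (Finsupp.single_le_single.2 (by omega))
  have hfin := hF.finiteDimensional_L (Finsupp.single P ((j : ℤ) + 1))
  have hgap : Gap P (j + 1) ↔ L (Finsupp.single P ((j : ℤ) + 1)) = L (Finsupp.single P (j : ℤ)) := by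
    rw [Gap]; push_cast; rw [add_sub_cancel_right]
  rw [hgap]
  constructor
  · rintro ⟨f, hf, hfv⟩
    refine (Submodule.eq_of_le_of_finrank_le hle ?_).symm
    have hlt : ell B < ell A := by
      refine Submodule.finrank_lt_finrank_of_lt (lt_of_le_of_ne hBA fun e => ?_)
      have hfA : f ∈ L A := by
        rw [hA, Groth.Funfld2.mem_L_sub_single_iff (by omega), hC'P, zero_sub]
        exact ⟨hf, hfv.le⟩
      rw [← e, hB, Groth.Funfld2.mem_L_sub_single_iff (by omega), hC'P, zero_sub, hfv,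
        WithZero.exp_le_exp] at hfA
      omega
    change ell (Finsupp.single P ((j : ℤ) + 1)) ≤ ell (Finsupp.single P (j : ℤ))
    omega
  · intro h
    have he : ell (Finsupp.single P ((j : ℤ) + 1)) = ell (Finsupp.single P (j : ℤ)) := by
      rw [ell, ell, h]
    have hne : L B ≠ L A := fun e => by
      have : ell B = ell A := by rw [ell, ell, e]
      omega
    obtain ⟨f, hf, hf'⟩ := SetLike.exists_of_lt (lt_of_le_of_ne hBA hne)
    have hf0 : f ≠ 0 := fun e => hf' (e ▸ zero_mem _)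
    rw [hA, Groth.Funfld2.mem_L_sub_single_iff (by omega), hC'P, zero_sub] at hf
    rw [hB, Groth.Funfld2.mem_L_sub_single_iff (by omega), hC'P, zero_sub] at hf'
    refine ⟨f, hf.1, ?_⟩
    have h3 := hf.2
    have h4 : ¬ P.1 f ≤ WithZero.exp (-((j : ℤ) + 1)) := fun e => hf' ⟨hf.1, e⟩
    rw [Groth.Funfld2.val_le_exp_iff P hf0] at h3 h4
    rw [val_eq_exp_neg_ord P hf0]
    congr 1
    omega

end Groth.Funfld2.Hasse
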