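import Groth.Agent.Funfld2.Hasse.Weierstrass
import Groth.Agent.FunFld1.RiemannRoch
import Mathlib.FieldTheory.RatFunc.AsPolynomial
import Mathlib.RingTheory.AdicCompletion.Completeness
import Mathlib.RingTheory.Henselian
import Mathlib.FieldTheory.PrimitiveElement

/-!
Existence of Hasse families for separating elements, the chain rule for expansions, and the finite
support of the divisor of `ds`.
-/

open FunFld Polynomial
open scoped LaurentSeries WithZero nonZeroDivisors

namespace Groth.Funfld2.Hasse

variable {k K : Type*} [Field k] [Field K] [Algebra k K]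

/-- A separating transcendental element has a total Hasse derivative. -/
theorem exists_isHasseFamily (hF : Groth.FunFld1.IsFF k K) {s : K} (hs : Transcendental k s)
    [Algebra.IsSeparable (IntermediateField.adjoin k ({s} : Set K)) K] :
    ∃ H : K →ₐ[k] PowerSeries K, LocRes.IsHasseFamily s H := by
  classical
  let F := IntermediateField.adjoin k ({s} : Set K)
  have := hF.finiteDimensional hs
  let φ0 : k[X] →ₐ[k] PowerSeries K := aeval (PowerSeries.C s + PowerSeries.X)
  have hcc : ∀ p : k[X], PowerSeries.constantCoeff (φ0 p) = aeval s p := by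
    intro p
    induction p using Polynomial.induction_on' with
    | add p q hp hq => rw [map_add, map_add, map_add, hp, hq]
    | monomial m a =>
      simp [φ0, Polynomial.aeval_monomial, PowerSeries.algebraMap_apply]
  have hunit : ∀ y : (k[X])⁰, IsUnit (φ0 y) := fun y => by
    rw [PowerSeries.isUnit_iff_constantCoeff, hcc, isUnit_iff_ne_zero]
    exact transcendental_iff_injective.1 hs |>.ne (a₂ := 0) (nonZeroDivisors.coe_ne_zero y) |>
      fun h => by simpa using h
  let lf : RatFunc k →ₐ[k] PowerSeries K :=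
    IsLocalization.liftAlgHom (M := (k[X])⁰) (f := φ0) hunit
  let e := RatFunc.algEquivOfTranscendental s hs
  let φF : F →ₐ[k] PowerSeries K := lf.comp e.symm.toAlgHom
  have hcc' : ∀ z : F, PowerSeries.constantCoeff (φF z) = (z : K) := by
    intro z
    obtain ⟨u, rfl⟩ := e.surjective z
    change PowerSeries.constantCoeff (lf (e.symm (e u))) = _
    rw [e.symm_apply_apply]
    have heq : (PowerSeries.constantCoeff.comp lf.toRingHom) =
        (algebraMap F K).comp (e : RatFunc k →+* F) := by
      refine IsLocalization.ringHom_ext (k[X])⁰ (RingHom.ext fun p => ?_)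
      simp only [RingHom.comp_apply, AlgHom.toRingHom_eq_coe, RingHom.coe_coe]
      have : lf (algebraMap k[X] (RatFunc k) p) = φ0 p := IsLocalization.lift_eq hunit p
      rw [this, hcc]
      change _ = algebraMap F K (e (algebraMap k[X] (RatFunc k) p))
      rw [RatFunc.algEquivOfTranscendental_algebraMap]
      exact aeval_algebraMap_apply K (IntermediateField.AdjoinSimple.gen k s) p
    exact RingHom.congr_fun heq u
  have hgen : φF ⟨s, IntermediateField.mem_adjoin_simple_self k s⟩ =
      PowerSeries.C s + PowerSeries.X := by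
    have h1 : e.symm ⟨s, IntermediateField.mem_adjoin_simple_self k s⟩ =
        algebraMap k[X] (RatFunc k) X := by
      rw [AlgEquiv.symm_apply_eq, RatFunc.algEquivOfTranscendental_algebraMap, aeval_X]
      rfl
    change lf (e.symm _) = _
    rw [h1]
    exact (IsLocalization.lift_eq hunit X).trans (aeval_X _)
  -- lift to a primitive element
  let _ : Algebra F (PowerSeries K) := φF.toRingHom.toAlgebra
  let pb := Field.powerBasisOfFiniteOfSeparable F K
  set m := minpoly F pb.gen with hm
  have hmon : (m.map φF.toRingHom).Monic := (minpoly.monic (Algebra.IsIntegral.isIntegral _)).map _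
  have hcomp : PowerSeries.constantCoeff.comp φF.toRingHom = algebraMap F K :=
    RingHom.ext hcc'
  have hev : ∀ q : Polynomial F, PowerSeries.constantCoeff
      ((q.map φF.toRingHom).eval (PowerSeries.C pb.gen)) = aeval pb.gen q := by
    intro q
    rw [eval_map, hom_eval₂, hcomp, PowerSeries.constantCoeff_C, aeval_def]
  obtain ⟨r, hr, hr0⟩ := HenselianRing.is_henselian
    (I := Ideal.span {(PowerSeries.X : PowerSeries K)}) (m.map φF.toRingHom) hmon
    (PowerSeries.C pb.gen)
    (Ideal.mem_span_singleton.2 (PowerSeries.X_dvd_iff.2 (by rw [hev, hm, minpoly.aeval])))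
    (by
      refine IsUnit.map _ (PowerSeries.isUnit_iff_constantCoeff.2 (isUnit_iff_ne_zero.2 ?_))
      rw [derivative_map, hev]
      exact (Algebra.IsSeparable.isSeparable F pb.gen).aeval_derivative_ne_zero (minpoly.aeval _ _))
  have hr' : PowerSeries.constantCoeff r = pb.gen := by
    have := PowerSeries.X_dvd_iff.1 (Ideal.mem_span_singleton.1 hr0)
    rwa [map_sub, PowerSeries.constantCoeff_C, sub_eq_zero] at this
  have hroot : aeval r m = 0 := by
    rw [aeval_def, ← eval_map]
    exact hr
  let ψ : K →ₐ[F] PowerSeries K := pb.lift r (by rw [← hm]; exact hroot)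
  have hψF : ∀ z : F, ψ (algebraMap F K z) = φF z := fun z => ψ.commutes z
  have hψgen : ψ pb.gen = r := PowerBasis.lift_gen _ _ _
  let H : K →ₐ[k] PowerSeries K :=
    { ψ.toRingHom with
      commutes' := fun c => by
        change ψ (algebraMap k K c) = _
        rw [IsScalarTower.algebraMap_apply k F K, hψF]
        exact φF.commutes c }
  refine ⟨H, (hψF ⟨s, IntermediateField.mem_adjoin_simple_self k s⟩).trans hgen, fun y => ?_⟩
  have hid : PowerSeries.constantCoeff.comp H.toRingHom = RingHom.id K := by
    obtain ⟨q, rfl⟩ : ∃ q : Unit, q = () := ⟨(), rfl⟩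
    let g : K →ₐ[F] K :=
      { PowerSeries.constantCoeff.comp H.toRingHom with
        commutes' := fun z => by
          change PowerSeries.constantCoeff (ψ (algebraMap F K z)) = _
          rw [hψF, hcc']; rfl }
    have : g = AlgHom.id F K := pb.algHom_ext (by
      change PowerSeries.constantCoeff (ψ pb.gen) = pb.gen
      rw [hψgen, hr'])
    exact congrArg AlgHom.toRingHom this
  exact RingHom.congr_fun hid y

/-- Chain rule for the derivative of an expansion. -/
theorem derivative_expansion (Φ : K →ₐ[k] k⸨X⸩) {s : K} {H : K →ₐ[k] PowerSeries K}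
    (hH : LocRes.IsHasseFamily s H)
    [Algebra.IsSeparable (IntermediateField.adjoin k ({s} : Set K)) K] (y : K) :
    LocRes.D k (Φ y) = Φ (LocRes.hasseD H 1 y) * LocRes.D k (Φ s) := by
  let _ := Φ.toRingHom.toAlgebra
  have htower : IsScalarTower k K k⸨X⸩ := ⟨fun c x y => by
    change Φ (c • x) * y = c • (Φ x * y)
    rw [Algebra.smul_def, map_mul, LocRes.map_algebraMap, Algebra.algebraMap_self, RingHom.id_apply,
      mul_assoc, HahnSeries.C_mul_eq_smul]⟩
  let δ : Derivation k K k⸨X⸩ :=
    (LinearMap.toSpanSingleton K k⸨X⸩ (LocRes.D k (Φ s))).compDer (d1 hH)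
  have hd : LocRes.dExp Φ - δ = 0 := by
    have htop := span_D_eq_top (k := k) s
    have hs : (LocRes.dExp Φ - δ).liftKaehlerDifferential (KaehlerDifferential.D k K s) = 0 := by
      rw [Derivation.liftKaehlerDifferential_comp_D, Derivation.sub_apply, sub_eq_zero]
      change LocRes.D k (Φ s) = d1 hH s • LocRes.D k (Φ s)
      rw [d1_apply, hasseD_one_self hH, one_smul]
    have hz : (LocRes.dExp Φ - δ).liftKaehlerDifferential = 0 := LinearMap.ext fun w => by
      obtain ⟨a, rfl⟩ := Submodule.mem_span_singleton.1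
        (htop ▸ Submodule.mem_top : w ∈ Submodule.span K {KaehlerDifferential.D k K s})
      rw [map_smul, hs, smul_zero, LinearMap.zero_apply]
    ext z
    rw [← Derivation.liftKaehlerDifferential_comp_D (LocRes.dExp Φ - δ), hz]
    rfl
  exact sub_eq_zero.1 (Derivation.congr_fun hd y)

variable {P : Place k K}

theorem transcendental_uniformizer (hK : IsFunctionField k K) {t : K}
    (ht : P.1 t = WithZero.exp (-1)) : Transcendental k t := by
  intro halg
  obtain ⟨c, hc⟩ := hK.2 t halg
  rcases eq_or_ne c 0 with rfl | h0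
  · rw [map_zero] at hc
    rw [← hc, map_zero] at ht
    exact WithZero.exp_ne_zero ht.symm
  · rw [← hc, Groth.Funfld2.val_algebraMap P h0, ← WithZero.exp_zero, WithZero.exp_inj] at ht
    omega

variable [IsAlgClosed k]

/-- A local parameter is separating. -/
theorem isSeparable_uniformizer (hK : IsFunctionField k K) {t : K}
    (ht : P.1 t = WithZero.exp (-1)) :
    Algebra.IsSeparable (IntermediateField.adjoin k ({t} : Set K)) K := by
  have hdeg : P.deg = 1 := (good_of_algClosed hK).deg_one P
  let Φ := expansion hdeg ht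
  let _ := Φ.toRingHom.toAlgebra
  have htower : IsScalarTower k K k⸨X⸩ := ⟨fun c x y => by
    change Φ (c • x) * y = c • (Φ x * y)
    rw [Algebra.smul_def, map_mul, LocRes.map_algebraMap, Algebra.algebraMap_self, RingHom.id_apply,
      mul_assoc, HahnSeries.C_mul_eq_smul]⟩
  refine isSeparable_of_derivation (Groth.FunFld1.IsFF.of_isFunctionField hK) (LocRes.dExp Φ) ?_
    (transcendental_uniformizer hK ht)
  change LocRes.D k (Φ t) ≠ 0
  intro h
  have := congrArg (fun f : k⸨X⸩ => f.coeff 0) h
  simp [Φ, expansion_self, LocRes.D_coeff] at this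

theorem exists_isHasseFamily_uniformizer (hK : IsFunctionField k K) {t : K}
    (ht : P.1 t = WithZero.exp (-1)) : ∃ H : K →ₐ[k] PowerSeries K, LocRes.IsHasseFamily t H := by
  have := isSeparable_uniformizer hK ht
  exact exists_isHasseFamily (Groth.FunFld1.IsFF.of_isFunctionField hK)
    (transcendental_uniformizer hK ht)

/-- The order of `ds` at a place is that of `ds/dt` for a local parameter `t`. -/
theorem ordDiff_eq_ord_hasseD (hK : IsFunctionField k K) {Φ : K →ₐ[k] k⸨X⸩}
    (hΦ : LocRes.IsExpansionAt P.1 Φ) {t : K} (ht : P.1 t = WithZero.exp (-1))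
    {H : K →ₐ[k] PowerSeries K} (hH : LocRes.IsHasseFamily t H) (s : K) :
    LocRes.ordDiff Φ 1 s = P.ord (LocRes.hasseD H 1 s) := by
  have := isSeparable_of_hasse hK hH
  have h1 : LocRes.vDiff Φ 1 t = 1 := by
    have h := ordDiff_eq_zero hΦ ht
    rw [LocRes.ordDiff, neg_eq_zero] at h
    have hne : LocRes.vDiff Φ 1 t ≠ 0 := by
      intro h0
      rw [LocRes.vDiff, map_one, one_mul, map_eq_zero] at h0
      have hv : Valued.v (Φ t) = WithZero.exp (-(1 : ℤ)) := (hΦ.1 t).trans ht
      have h2 : Valued.v (Φ t) ≤ WithZero.exp (-(2 : ℤ)) :=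
        (LaurentSeries.valuation_le_iff_coeff_lt_eq_zero k).2 fun i hi => by
          rcases lt_or_eq_of_le (show i ≤ 1 by omega) with hl | he
          · exact (LaurentSeries.valuation_le_iff_coeff_lt_eq_zero k).1 hv.le i hl
          · have := congrArg (fun f : k⸨X⸩ => f.coeff 0) h0
            simp only [LocRes.D_coeff, zero_add, one_smul, HahnSeries.coeff_zero] at this
            rw [he, this]
      rw [hv, WithZero.exp_le_exp] at h2
      omega
    rw [← WithZero.exp_log hne, h, WithZero.exp_zero]
  rw [LocRes.ordDiff, LocRes.vDiff, map_one, one_mul, derivative_expansion Φ hH s, map_mul]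
  rw [LocRes.vDiff, map_one, one_mul] at h1
  rw [h1, mul_one, hΦ.1]
  rfl

omit [IsAlgClosed k] in
/-- Every other place has a local parameter in one fixed Riemann-Roch space. -/
theorem exists_uniformizer_mem_L (hK : IsFunctionField k K) (hG : Good k K) {P₀ Q : Place k K}
    (hne : Q ≠ P₀) :
    ∃ t ∈ L (Finsupp.single P₀ ((2 * genus k K + 1 : ℕ) : ℤ)), Q.1 t = WithZero.exp (-1) := by
  classical
  set D := Finsupp.single P₀ ((2 * genus k K + 1 : ℕ) : ℤ) with hD
  have hDQ : D Q = 0 := Finsupp.single_eq_of_ne hne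
  have hdeg : ∀ c : ℤ, Divisor.deg (D - Finsupp.single Q c) = 2 * genus k K + 1 - c := fun c => by
    rw [Groth.Funfld2.deg_sub, hD, Groth.Funfld2.deg_single, Groth.Funfld2.deg_single,
      hG.deg_one, hG.deg_one]
    push_cast; ring
  have h1 := Groth.FunFld1.ell_eq_of_deg_ge hK (D := D - Finsupp.single Q 1) (by rw [hdeg]; omega)
  have h2 := Groth.FunFld1.ell_eq_of_deg_ge hK (D := D - Finsupp.single Q 2) (by rw [hdeg]; omega)
  rw [hdeg] at h1 h2
  have hnle : ¬ L (D - Finsupp.single Q 1) ≤ L (D - Finsupp.single Q 2) := by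
    intro hle
    have := finiteDimensional_L_of_place hG P₀ (D - Finsupp.single Q 2)
    have hle' : ell (D - Finsupp.single Q 1) ≤ ell (D - Finsupp.single Q 2) :=
      Submodule.finrank_mono hle
    omega
  obtain ⟨t, ht1, ht2⟩ := SetLike.not_le_iff_exists.1 hnle
  rw [mem_L_sub_single_iff zero_le_one, hDQ, zero_sub] at ht1
  rw [mem_L_sub_single_iff zero_le_two, hDQ, zero_sub] at ht2
  have ht0 : t ≠ 0 := fun e => ht2 ⟨e ▸ zero_mem _, by simp [e]⟩
  refine ⟨t, ht1.1, ?_⟩
  have h3 := ht1.2
  have h4 : ¬ Q.1 t ≤ WithZero.exp (-2) := fun e => ht2 ⟨ht1.1, e⟩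
  rw [val_le_exp_iff Q ht0] at h3 h4
  rw [val_eq_exp_ord Q ht0, show Q.ord t = 1 by omega]

/-- For almost all places, `ds/dt` is a unit, `t` any local parameter. -/
theorem finite_bad_places (hK : IsFunctionField k K) {s : K} {Hs : K →ₐ[k] PowerSeries K}
    (hHs : LocRes.IsHasseFamily s Hs) :
    {Q : Place k K | ¬ ∀ (t : K) (Ht : K →ₐ[k] PowerSeries K), Q.1 t = WithZero.exp (-1) →
      LocRes.IsHasseFamily t Ht → Q.ord (LocRes.hasseD Ht 1 s) = 0}.Finite := by
  classical
  by_cases hex : IsEmpty (Place k K)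
  · exact Set.toFinite _
  obtain ⟨P₀⟩ := not_isEmpty_iff.1 hex
  have hG := good_of_algClosed hK
  set D := Finsupp.single P₀ ((2 * genus k K + 1 : ℕ) : ℤ)
  have := finiteDimensional_L_of_place hG P₀ D
  let b := Module.finBasis k (L D)
  refine ((Set.finite_singleton P₀).union ((hG.finite_ord s).union
    (Set.finite_iUnion fun i => hG.finite_ord (LocRes.hasseD Hs 1 ((b i : L D) : K))))).subset
    fun Q hQ => ?_
  by_contra hout
  simp only [Set.mem_union, Set.mem_singleton_iff, Set.mem_iUnion, Function.mem_support, not_or,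
    not_exists, not_not] at hout
  obtain ⟨hQ0, hs, hb⟩ := hout
  refine hQ fun t Ht ht hHt => ?_
  obtain ⟨u, huL, hu⟩ := exists_uniformizer_mem_L hK hG hQ0
  have hsepS := isSeparable_of_hasse hK hHs
  have hsepT := isSeparable_of_hasse hK hHt
  have hdeg : Q.deg = 1 := hG.deg_one Q
  have hs1 : Q.1 s ≤ 1 := (Groth.FunFld1.val_le_one_iff Q s).2 hs.ge
  have hds : Q.1 (LocRes.hasseD Ht 1 s) ≤ 1 := val_hasseD_le_one hdeg ht hHt 1 hs1
  have hdu : Q.1 (LocRes.hasseD Hs 1 u) ≤ 1 := by
    have h := b.sum_repr ⟨u, huL⟩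
    have h' : u = ∑ i, b.repr ⟨u, huL⟩ i • ((b i : L D) : K) := by
      have := congrArg (L D).subtype h
      rw [map_sum] at this
      simp only [map_smul, Submodule.subtype_apply] at this
      exact this.symm
    rw [h', hasseD_sum]
    refine Q.1.map_sum_le fun i _ => ?_
    rw [hasseD_smul, Algebra.smul_def, map_mul]
    exact mul_le_one' (Q.2.1 _) ((Groth.FunFld1.val_le_one_iff Q _).2 (hb i).ge)
  -- chain rule read through the expansion in `t`
  let Φ := expansion hdeg ht
  have hΦ := isExpansionAt_expansion hdeg ht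
  have e1 := derivative_expansion Φ hHt s
  have e2 := derivative_expansion Φ hHs u
  have hDt : LocRes.D k (Φ t) = 1 := by
    ext i
    rw [LocRes.D_coeff, show Φ t = HahnSeries.single 1 1 from expansion_self hdeg ht,
      HahnSeries.coeff_one, HahnSeries.coeff_single]
    split_ifs with h h' h'
    · simp [show i = 0 by omega]
    · omega
    · omega
    · simp
  rw [hDt, mul_one] at e1
  rw [e1] at e2
  have hu1 : Valued.v (LocRes.D k (Φ u)) = (1 : ℤᵐ⁰) := by
    have h := ordDiff_eq_zero hΦ hu
    rw [LocRes.ordDiff, neg_eq_zero, LocRes.vDiff, map_one, one_mul] at h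
    have hne : Valued.v (LocRes.D k (Φ u)) ≠ (0 : ℤᵐ⁰) := by
      rw [ne_eq, map_eq_zero]
      intro h0
      have h1 := ((val_eq_exp_iff_coeff hdeg ht u 1).1 hu).2
      refine h1 ?_
      have := congrArg (fun f : k⸨X⸩ => f.coeff 0) h0
      simpa [LocRes.D_coeff] using this
    rw [← WithZero.exp_log hne, h, WithZero.exp_zero]
  rw [e2, map_mul, hΦ.1, hΦ.1] at hu1
  have h1 : Q.1 (LocRes.hasseD Ht 1 s) = 1 := by
    refine le_antisymm hds (not_lt.1 fun hlt => ?_)
    exact hu1.not_lt ((mul_le_of_le_one_left' hdu).trans_lt hlt)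
  have hne : LocRes.hasseD Ht 1 s ≠ 0 := fun e => by rw [e, map_zero] at h1; exact zero_ne_one h1
  exact (Groth.FunFld1.val_eq_one_iff Q hne).1 h1

end Groth.Funfld2.Hasse
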