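import Groth.Agent.Funfld2.Hasse.Differential
import Groth.Agent.FunFld1.MapDiv
import Mathlib.LinearAlgebra.Lagrange

/-!
The divisor of `ds`, invariance of the Weierstrass divisor, classical order sequences.
-/

open FunFld Groth.FunFld1
open scoped LaurentSeries WithZero

namespace Groth.Funfld2.Hasse

variable {k K : Type*} [Field k] [Field K] [Algebra k K]

section Chain

variable [IsAlgClosed k] (hK : IsFunctionField k K) {s t : K} {Hs Ht : K →ₐ[k] PowerSeries K}
  (hHs : LocRes.IsHasseFamily s Hs) (hHt : LocRes.IsHasseFamily t Ht)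
include hK hHs hHt

theorem hasseD_one_chain (y : K) :
    LocRes.hasseD Hs 1 y = LocRes.hasseD Ht 1 y * LocRes.hasseD Hs 1 t := by
  have := isSeparable_of_hasse hK hHt
  let Δ : Derivation k K K := d1 hHs - LocRes.hasseD Hs 1 t • d1 hHt
  have htop := span_D_eq_top (k := k) t
  have ht : Δ.liftKaehlerDifferential (KaehlerDifferential.D k K t) = 0 := by
    rw [Derivation.liftKaehlerDifferential_comp_D]
    simp only [Δ, Derivation.sub_apply, Derivation.smul_apply, d1_apply, smul_eq_mul,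
      hasseD_one_self hHt, mul_one, sub_self]
  obtain ⟨a, ha⟩ := Submodule.mem_span_singleton.1
    (htop ▸ Submodule.mem_top : KaehlerDifferential.D k K y ∈
      Submodule.span K {KaehlerDifferential.D k K t})
  have h : Δ y = 0 := by
    rw [← Derivation.liftKaehlerDifferential_comp_D Δ y, ← ha, map_smul, ht, smul_zero]
  simp only [Δ, Derivation.sub_apply, Derivation.smul_apply, d1_apply, smul_eq_mul, sub_eq_zero] at h
  rw [h, mul_comm]

theorem hasseD_one_ne_zero : LocRes.hasseD Ht 1 s ≠ 0 := by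
  intro h
  have := hasseD_one_chain hK hHs hHt s
  rw [hasseD_one_self hHs, h, zero_mul] at this
  exact one_ne_zero this

end Chain

section Diff

variable [IsAlgClosed k] (hK : IsFunctionField k K) {Φ : Place k K → (K →ₐ[k] LaurentSeries k)}
  (hΦ : ∀ P : Place k K, LocRes.IsExpansionAt P.1 (Φ P))
include hK

omit [IsAlgClosed k] in
theorem exists_parameter (P : Place k K) [IsAlgClosed k] :
    ∃ (u : K) (Hu : K →ₐ[k] PowerSeries K),
      P.1 u = WithZero.exp (-1) ∧ LocRes.IsHasseFamily u Hu := by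
  obtain ⟨u, -, hu⟩ := Groth.FunFld1.exists_uniformizer P
  obtain ⟨Hu, hHu⟩ := exists_isHasseFamily_uniformizer hK hu
  exact ⟨u, Hu, hu, hHu⟩

include hΦ

theorem divDiff_apply {s : K} {Hs : K →ₐ[k] PowerSeries K} (hHs : LocRes.IsHasseFamily s Hs)
    {P : Place k K} {t : K} (ht : P.1 t = WithZero.exp (-1)) {Ht : K →ₐ[k] PowerSeries K}
    (hHt : LocRes.IsHasseFamily t Ht) :
    divDiff Φ 1 s P = P.ord (LocRes.hasseD Ht 1 s) := by
  have hfin : (Function.support fun P : Place k K => LocRes.ordDiff (Φ P) 1 s).Finite := by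
    refine (finite_bad_places hK hHs).subset fun Q hQ hgood => ?_
    obtain ⟨u, Hu, hu, hHu⟩ := exists_parameter hK Q
    exact hQ ((ordDiff_eq_ord_hasseD hK (hΦ Q) hu hHu s).trans (hgood u Hu hu hHu))
  rw [divDiff, dif_pos hfin]
  exact ordDiff_eq_ord_hasseD hK (hΦ P) ht hHt s

theorem divDiff_change {s t : K} {Hs Ht : K →ₐ[k] PowerSeries K}
    (hHs : LocRes.IsHasseFamily s Hs) (hHt : LocRes.IsHasseFamily t Ht) (P : Place k K) :
    divDiff Φ 1 s P = P.ord (LocRes.hasseD Ht 1 s) + divDiff Φ 1 t P := by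
  obtain ⟨u, Hu, hu, hHu⟩ := exists_parameter hK P
  rw [divDiff_apply hK hΦ hHs hu hHu, divDiff_apply hK hΦ hHt hu hHu,
    hasseD_one_chain hK hHu hHt s, ord_mul P (hasseD_one_ne_zero hK hHs hHt)
      (hasseD_one_ne_zero hK hHt hHu)]

end Diff

section MapDiv

variable (hF : IsFF k K) {n : ℕ}
include hF

theorem mapDiv_smul (φ : Fin (n + 1) → K) (hne : ∀ i, φ i ≠ 0) {y : K} (hy : y ≠ 0)
    (P : Place k K) : mapDiv k (y • φ) P = mapDiv k φ P - P.ord y := by
  obtain ⟨i, hi⟩ := hF.exists_ord_eq_neg_mapDiv φ P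
  obtain ⟨j, hj⟩ := hF.exists_ord_eq_neg_mapDiv (y • φ) P
  have h1 := hF.ord_ge_neg_mapDiv φ P j
  have h2 := hF.ord_ge_neg_mapDiv (y • φ) P i
  simp only [Pi.smul_apply, smul_eq_mul, ord_mul P hy (hne _)] at hj h2
  omega

theorem mapDiv_mix_le (φ φ' : Fin (n + 1) → K) (hne : ∀ i, φ i ≠ 0) (hne' : ∀ i, φ' i ≠ 0)
    (A : Fin (n + 1) → Fin (n + 1) → k) (hA : ∀ i, φ' i = ∑ j, A i j • φ j) (P : Place k K) :
    mapDiv k φ' P ≤ mapDiv k φ P := by
  obtain ⟨i, hi⟩ := hF.exists_ord_eq_neg_mapDiv φ' P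
  have h : P.1 (φ' i) ≤ WithZero.exp (mapDiv k φ P) := by
    rw [hA]
    refine P.1.map_sum_le fun j _ => ?_
    rw [Algebra.smul_def, map_mul]
    refine (mul_le_of_le_one_left' (P.2.1 (A i j))).trans ?_
    rw [Groth.Funfld2.val_le_exp_iff P (hne j)]
    exact hF.ord_ge_neg_mapDiv φ P j
  rw [Groth.Funfld2.val_le_exp_iff P (hne' i)] at h
  omega

omit hF in
theorem linearIndependent_mix {φ φ' : Fin (n + 1) → K} (hφ : LinearIndependent k φ)
    {A : Matrix (Fin (n + 1)) (Fin (n + 1)) k} (hA : A.det ≠ 0)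
    (h : ∀ i, φ' i = ∑ j, A i j • φ j) : LinearIndependent k φ' := by
  rw [Fintype.linearIndependent_iff] at hφ ⊢
  intro v hv
  simp only [h, Finset.smul_sum, smul_smul] at hv
  rw [Finset.sum_comm] at hv
  simp only [← Finset.sum_smul] at hv
  have h0 : Matrix.vecMul v A = 0 := funext fun j => by
    simpa [Matrix.vecMul, dotProduct] using hφ _ hv j
  exact congrFun (Matrix.eq_zero_of_vecMul_eq_zero hA h0)

theorem mapDiv_mix {φ φ' : Fin (n + 1) → K} (hφ : LinearIndependent k φ)
    {A : Matrix (Fin (n + 1)) (Fin (n + 1)) k} (hA : A.det ≠ 0)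
    (h : ∀ i, φ' i = ∑ j, A i j • φ j) (P : Place k K) : mapDiv k φ' P = mapDiv k φ P := by
  have hφ' := linearIndependent_mix hφ hA h
  let B : Matrix (Fin (n + 1)) (Fin (n + 1)) k := A⁻¹
  refine le_antisymm (mapDiv_mix_le hF φ φ' hφ.ne_zero hφ'.ne_zero A h P)
    (mapDiv_mix_le hF φ' φ hφ'.ne_zero hφ.ne_zero B (fun i => ?_) P)
  simp only [h, Finset.smul_sum, smul_smul]
  rw [Finset.sum_comm]
  simp only [← Finset.sum_smul]
  rw [Finset.sum_congr rfl fun j _ => congrArg (· • φ j)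
    ((Matrix.mul_apply (M := B) (N := A)).symm.trans
      (congrFun (congrFun (Matrix.nonsing_inv_mul A hA.isUnit) i) j))]
  simp [Matrix.one_apply]

end MapDiv

theorem linearIndependent_smul {ι : Type*} {φ : ι → K} (hφ : LinearIndependent k φ) {y : K}
    (hy : y ≠ 0) : LinearIndependent k (y • φ) :=
  hφ.map' (LinearMap.mulLeft k y)
    (LinearMap.ker_eq_bot.2 fun _ _ h => mul_left_cancel₀ hy h)

theorem linearIndependent_map {ι : Type*} {φ : ι → K} (hφ : LinearIndependent k φ)
    (τ : K →ₐ[k] K) : LinearIndependent k (τ ∘ φ) :=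
  hφ.map' τ.toLinearMap (LinearMap.ker_eq_bot.2 τ.toRingHom.injective)

/-- Every map is equivalent to one normalized at a given place. -/
theorem exists_normalize (P : Place k K) {n : ℕ} {φ : Fin (n + 1) → K}
    (hφ : LinearIndependent k φ) : ∃ y : K, y ≠ 0 ∧
      (1 : K) ∈ Submodule.span k (Set.range (y • φ)) ∧ ∀ i, P.1 ((y • φ) i) ≤ 1 := by
  obtain ⟨j, -, hj⟩ := Finset.univ.exists_max_image (fun i => P.1 (φ i)) Finset.univ_nonempty
  refine ⟨(φ j)⁻¹, inv_ne_zero (hφ.ne_zero j),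
    Submodule.subset_span ⟨j, by simp [hφ.ne_zero j]⟩, fun i => ?_⟩
  rw [Pi.smul_apply, smul_eq_mul, inv_mul_eq_div, map_div₀]
  exact div_le_one_of_le₀ (hj i (Finset.mem_univ i)) zero_le

section WDiv

variable [IsAlgClosed k] (hK : IsFunctionField k K) {n : ℕ} {φ : Fin (n + 1) → K}
  (hφ : LinearIndependent k φ) {τ : K →ₐ[k] K} {s : K} {Hs : K →ₐ[k] PowerSeries K}
  (hHs : LocRes.IsHasseFamily s Hs) {J : Fin n → ℕ} (hJ : IsOrders K (hcol τ Hs φ) J)
  {Φ : Place k K → (K →ₐ[k] LaurentSeries k)}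
  (hΦ : ∀ P : Place k K, LocRes.IsExpansionAt P.1 (Φ P))
include hK hφ hHs hJ hΦ

theorem wDiv_invariant {t : K} {Ht : K →ₐ[k] PowerSeries K} (hHt : LocRes.IsHasseFamily t Ht)
    (A : Matrix (Fin (n + 1)) (Fin (n + 1)) k) (hA : A.det ≠ 0) {y : K} (hy : y ≠ 0)
    {φ' : Fin (n + 1) → K} (hφ' : ∀ i, φ' i = y * ∑ j, A i j • φ j) :
    IsOrders K (hcol τ Ht φ') J ∧ wDiv τ Ht Φ t φ' J = wDiv τ Hs Φ s φ J := by
  have hF := IsFF.of_isFunctionField hK
  have hG := good_of_algClosed hK
  set ψ : Fin (n + 1) → K := fun i => ∑ j, A i j • φ j with hψdef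
  have hψ : LinearIndependent k ψ := linearIndependent_mix hφ hA fun _ => rfl
  have hτy : τ y ≠ 0 := (map_ne_zero τ).2 hy
  obtain rfl : φ' = y • ψ := funext hφ'
  obtain ⟨hl1, hl2⟩ := linear_change (H := Hs) τ φ ψ A hA fun _ => rfl
  have hJψ := (hl1 J).2 hJ
  obtain ⟨hv1, hv2⟩ := variable_change hK hHs τ ψ hHt
  have hJt := (hv1 J).2 hJψ
  obtain ⟨hs1, hs2⟩ := smul_change hHt τ ψ hy
  refine ⟨(hs1 J).2 hJt, ?_⟩
  ext P
  have hdet : (wrMat τ Hs φ J).det ≠ 0 := by
    rw [wrMat_eq]; exact selDet_ne_zero hJ (hcol_zero_ne hφ τ Hs)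
  have hAk : algebraMap k K A.det ≠ 0 := (map_ne_zero _).2 hA
  have hD := hasseD_one_ne_zero hK hHs hHt
  have hord : P.ord (wrMat τ Ht (y • ψ) J).det = P.ord (τ y) + n * P.ord y +
      ((∑ l, J l : ℕ) * P.ord (LocRes.hasseD Ht 1 s) + P.ord (wrMat τ Hs φ J).det) := by
    have hpow : ∀ (x : K) (m : ℕ), x ≠ 0 → P.ord (x ^ m) = m * P.ord x := by
      intro x m hx
      induction m with
      | zero => rw [pow_zero, ← map_one (algebraMap k K), ord_algebraMap]; simp
      | succ m ih => rw [pow_succ, ord_mul P (pow_ne_zero m hx) hx, ih]; push_cast; ring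
    rw [hs2 J hJt, hv2 J hJψ, hl2 J]
    rw [ord_mul P (mul_ne_zero hτy (pow_ne_zero n hy))
        (mul_ne_zero (pow_ne_zero _ hD) (mul_ne_zero hAk hdet)),
      ord_mul P hτy (pow_ne_zero n hy), hpow _ _ hy,
      ord_mul P (pow_ne_zero _ hD) (mul_ne_zero hAk hdet), hpow _ _ hD, ord_mul P hAk hdet,
      ord_algebraMap, zero_add]
  have hM1 : mapDiv k (y • ψ) P = mapDiv k φ P - P.ord y := by
    rw [mapDiv_smul hF ψ hψ.ne_zero hy, mapDiv_mix hF hφ hA (fun _ => rfl)]
  have hM2 : mapDiv k (τ ∘ (y • ψ)) P = mapDiv k (τ ∘ φ) P - P.ord (τ y) := by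
    rw [show τ ∘ (y • ψ) = τ y • (τ ∘ ψ) from funext fun i => map_mul τ y _,
      mapDiv_smul hF _ (linearIndependent_map hψ τ).ne_zero hτy,
      mapDiv_mix hF (linearIndependent_map hφ τ) hA
        (fun i => by simp [Function.comp_apply, hψdef, map_sum])]
  simp only [wDiv, Finsupp.add_apply, Finsupp.smul_apply, Groth.Funfld2.div_apply hG, hord, hM1,
    hM2, divDiff_change hK hΦ hHs hHt P, smul_eq_mul]
  push_cast
  ring

/-- Reading the Weierstrass divisor at `P` from a normalized equivalent map. -/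
theorem exists_normalized (P : Place k K) :
    ∃ (y t : K) (Ht : K →ₐ[k] PowerSeries K), y ≠ 0 ∧ P.1 t = WithZero.exp (-1) ∧
      LocRes.IsHasseFamily t Ht ∧ (1 : K) ∈ Submodule.span k (Set.range (y • φ)) ∧
      (∀ i, P.1 ((y • φ) i) ≤ 1) ∧ LinearIndependent k (y • φ) ∧
      IsOrders K (hcol τ Ht (y • φ)) J ∧
      wDiv τ Hs Φ s φ J = wDiv τ Ht Φ t (y • φ) J := by
  obtain ⟨t, Ht, ht, hHt⟩ := exists_parameter hK P
  obtain ⟨y, hy, heff, hnorm⟩ := exists_normalize P hφ
  obtain ⟨h1, h2⟩ := wDiv_invariant hK hφ hHs hJ hΦ hHt 1 (by simp) hy (φ' := y • φ)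
    (fun i => by simp [Matrix.one_apply])
  exact ⟨y, t, Ht, hy, ht, hHt, heff, hnorm, linearIndependent_smul hφ hy, h1, h2.symm⟩

theorem wDiv_nonneg : 0 ≤ wDiv τ Hs Φ s φ J := by
  intro P
  have hG := good_of_algClosed hK
  obtain ⟨y, t, Ht, hy, ht, hHt, heff, hnorm, hψ, hJt, hW⟩ := exists_normalized hK hφ hHs hJ hΦ P
  have hsep := isSeparable_of_hasse hK hHt
  have hF := IsFF.of_isFunctionField hK
  set ψ := y • φ
  rw [hW]
  simp only [Finsupp.coe_zero, Pi.zero_apply, wDiv, Finsupp.add_apply, Finsupp.smul_apply,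
    Groth.Funfld2.div_apply hG, divDiff_apply_uniformizer hΦ ht, smul_zero, add_zero,
    mapDiv_apply_eq_zero hG hψ.ne_zero hnorm (exists_val_eq_one heff hnorm)]
  have hne : (wrMat τ Ht ψ J).det ≠ 0 := by
    rw [wrMat_eq]; exact selDet_ne_zero hJt (hcol_zero_ne hψ τ Ht)
  have hle : P.1 (wrMat τ Ht ψ J).det ≤ WithZero.exp (mapDiv k (τ ∘ ψ) P) := by
    rw [Matrix.det_succ_column_zero]
    refine P.1.map_sum_le fun i _ => ?_
    rw [map_mul, map_mul]
    refine (mul_le_of_le_one_right' ?_).trans ((mul_le_of_le_one_left' ?_).trans ?_)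
    · rw [Matrix.det_apply]
      refine P.1.map_sum_le fun σ _ => ?_
      rw [Units.smul_def, zsmul_eq_mul, map_mul, map_prod]
      refine mul_le_one' ?_ (Finset.prod_le_one' fun l _ => ?_)
      · rw [← map_intCast (algebraMap k K)]; exact P.2.1 _
      · rw [Matrix.submatrix_apply]
        exact val_hasseD_le_one (hG.deg_one P) ht hHt _ (hnorm _)
    · rw [map_pow, Valuation.map_neg, map_one, one_pow]
    · change P.1 ((τ ∘ ψ) i) ≤ _
      rw [Groth.Funfld2.val_le_exp_iff P ((linearIndependent_map hψ τ).ne_zero i)]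
      exact hF.ord_ge_neg_mapDiv _ P i
  rw [Groth.Funfld2.val_le_exp_iff P hne] at hle
  omega

end WDiv

section Classical

variable {n : ℕ}

theorem apply_le_of_range_subset {J J₁ : Fin n → ℕ} (hJ : StrictMono J) (hJ₁ : StrictMono J₁)
    (h : ∀ i, J i = 0 ∨ ∃ l, J₁ l = J i) (l : Fin n) : J l ≤ J₁ l := by
  by_contra hlt
  push Not at hlt
  have h' : ∀ i : Set.Ici l, ∃ q : Set.Ioi l, J₁ q = J i := by
    intro i
    have hi : J₁ l < J i := hlt.trans_le (hJ.monotone i.2)
    obtain ⟨q, hq⟩ := (h i).resolve_left (by omega)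
    exact ⟨⟨q, hJ₁.lt_iff_lt.1 (hq ▸ hi)⟩, hq⟩
  choose q hq using h'
  have hqinj : Function.Injective q := fun a b e => Subtype.ext (hJ.injective (by
    rw [← hq a, ← hq b, e]))
  have h1 := Fintype.card_le_of_injective q hqinj
  rw [← Set.toFinset_card, ← Set.toFinset_card, Set.toFinset_Ici, Set.toFinset_Ioi, Fin.card_Ici,
    Fin.card_Ioi] at h1
  omega

theorem det_binomMat_classical {j : Fin n → ℕ} (hj : StrictMono j) {e N : ℕ} (he : e ≤ 1)
    (hje : ∀ r, e ≤ j r) (hjN : ∀ r, j r ≤ N) (hinj : ∀ a ≤ N, ∀ b ≤ N, (a : k) = b → a = b) :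
    (binomMat k j (fun l : Fin n => (l : ℕ) + e)).det ≠ 0 := by
  classical
  intro h0
  obtain ⟨v, hv, hv0⟩ := Matrix.exists_mulVec_eq_zero_iff.2 h0
  have hlow : ∀ r : Fin n, (r : ℕ) + e ≤ j r := by
    intro ⟨r, hr⟩
    induction r with
    | zero => simpa using hje ⟨0, hr⟩
    | succ r ih =>
      have := ih (by omega)
      have := hj (show (⟨r, by omega⟩ : Fin n) < ⟨r + 1, hr⟩ from Fin.lt_def.2 (Nat.lt_succ_self r))
      simp only at *
      omega
  have hfac : ∀ s : Fin n, (((s : ℕ) + e).factorial : k) ≠ 0 := by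
    intro s
    have hle : (s : ℕ) + e ≤ N := (hlow s).trans (hjN s)
    generalize (s : ℕ) + e = m at hle
    induction m with
    | zero => simp
    | succ m ih =>
      rw [Nat.factorial_succ, Nat.cast_mul]
      refine mul_ne_zero (fun h => ?_) (ih (by omega))
      have := hinj (m + 1) hle 0 (Nat.zero_le _) (by simpa using h)
      omega
  let p : Polynomial k := ∑ s : Fin n,
    Polynomial.C (v s / (((s : ℕ) + e).factorial : k)) * descPochhammer k ((s : ℕ) + e)
  have heval : ∀ m : ℕ, p.eval (m : k) = ∑ s : Fin n, v s * ((m.choose ((s : ℕ) + e) : ℕ) : k) := by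
    intro m
    simp only [p, Polynomial.eval_finsetSum, Polynomial.eval_mul, Polynomial.eval_C,
      descPochhammer_eval_eq_descFactorial]
    refine Finset.sum_congr rfl fun s _ => ?_
    rw [Nat.descFactorial_eq_factorial_mul_choose, Nat.cast_mul]
    field_simp [hfac s]
  have hroot : ∀ r, p.eval (j r : k) = 0 := fun r => by
    rw [heval, ← show (binomMat k j fun l : Fin n => (l : ℕ) + e).mulVec v r = 0 from congrFun hv0 r]
    simp [Matrix.mulVec, dotProduct, binomMat, mul_comm]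
  have hp : p = 0 := by
    let T : Finset k := Finset.univ.image (fun r => (j r : k)) ∪
      if e = 1 then {0} else ∅
    refine Polynomial.eq_zero_of_degree_lt_of_eval_finset_eq_zero T ?_ ?_
    · have hcardT : T.card = n + e := by
        have h1 : (Finset.univ.image (fun r => (j r : k))).card = n := by
          rw [Finset.card_image_of_injective _ (fun a b hab =>
            hj.injective (hinj _ (hjN a) _ (hjN b) hab)), Finset.card_fin]
        rcases Nat.le_one_iff_eq_zero_or_eq_one.1 he with rfl | rfl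
        · simp [T, h1]
        · rw [show T = Finset.univ.image (fun r => (j r : k)) ∪ {0} by simp [T],
            Finset.card_union_of_disjoint, h1, Finset.card_singleton]
          simp only [Finset.disjoint_singleton_right, Finset.mem_image, Finset.mem_univ, true_and,
            not_exists]
          intro r hr
          have := hinj _ (hjN r) 0 (Nat.zero_le _) (by simpa using hr)
          have := hje r
          omega
      rw [hcardT]
      refine (Polynomial.degree_sum_le _ _).trans_lt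
        ((Finset.sup_lt_iff (WithBot.bot_lt_coe _)).2 fun s _ => ?_)
      refine ((Polynomial.degree_mul_le _ _).trans (add_le_add Polynomial.degree_C_le le_rfl)).trans_lt ?_
      rw [zero_add]
      refine Polynomial.degree_le_natDegree.trans_lt ?_
      rw [descPochhammer_natDegree]
      exact_mod_cast Nat.add_lt_add_right s.isLt e
    · intro x hx
      rcases Finset.mem_union.1 hx with hx | hx
      · obtain ⟨r, -, rfl⟩ := Finset.mem_image.1 hx
        exact hroot r
      · split_ifs at hx with he1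
        · rw [Finset.mem_singleton] at hx
          subst hx
          rw [show (0 : k) = ((0 : ℕ) : k) by simp, heval, Nat.cast_zero]
          refine Finset.sum_eq_zero fun s _ => ?_
          rw [Nat.choose_eq_zero_of_lt (by omega)]
          simp
        · simp at hx
  obtain ⟨s₀, hs₀, hmax⟩ := (Finset.univ.filter fun s => v s ≠ 0).exists_max_image id
    (by
      obtain ⟨s, hs⟩ := Function.ne_iff.1 hv
      exact ⟨s, by simpa using hs⟩)
  simp only [Finset.mem_filter, Finset.mem_univ, true_and, id_eq] at hs₀ hmax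
  have hc := congrArg (fun q : Polynomial k => q.coeff ((s₀ : ℕ) + e)) hp
  simp only [p, Polynomial.finsetSum_coeff, Polynomial.coeff_C_mul, Polynomial.coeff_zero] at hc
  rw [Finset.sum_eq_single s₀] at hc
  · have hm : (descPochhammer k ((s₀ : ℕ) + e)).coeff ((s₀ : ℕ) + e) = 1 := by
      have := (monic_descPochhammer k ((s₀ : ℕ) + e)).coeff_natDegree
      rwa [descPochhammer_natDegree] at this
    rw [hm, mul_one] at hc
    exact div_ne_zero hs₀ (hfac s₀) hc
  · intro s _ hs
    by_cases hvs : v s = 0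
    · simp [hvs]
    · rw [Polynomial.coeff_eq_zero_of_natDegree_lt, mul_zero]
      rw [descPochhammer_natDegree]
      have := lt_of_le_of_ne (hmax s hvs) hs
      omega
  · simp

theorem cast_inj_of_ringChar {N : ℕ} (h : ringChar k = 0 ∨ N < ringChar k) :
    ∀ a ≤ N, ∀ b ≤ N, (a : k) = b → a = b := by
  intro a ha b hb hab
  rcases h with h | h
  · have := (CharP.ringChar_zero_iff_CharZero k).1 h
    exact Nat.cast_injective hab
  · exact CharP.natCast_injOn_Iio k (ringChar k) (show a < ringChar k by omega)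
      (show b < ringChar k by omega) hab

variable [IsAlgClosed k] (hK : IsFunctionField k K) {P : Place k K} {t : K}
  (ht : P.1 t = WithZero.exp (-1)) {H : K →ₐ[k] PowerSeries K} (hH : LocRes.IsHasseFamily t H)
  {φ : Fin (n + 1) → K} (hφ : LinearIndependent k φ)
  (heff : (1 : K) ∈ Submodule.span k (Set.range φ)) (hnorm : ∀ i, P.1 (φ i) ≤ 1) {J' : Fin n → ℕ}
  (hJ' : IsOrders (IsLocalRing.ResidueField P.O) (hcolAt P H φ) J')
include hK ht hH hφ heff hnorm hJ'

theorem orders_at_le_deg (l : Fin n) : (J' l : ℤ) ≤ (mapDiv k φ).deg := by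
  have hG := good_of_algClosed hK
  have hF := IsFF.of_isFunctionField hK
  have hsep := isSeparable_of_hasse hK hH
  have hdeg : P.deg = 1 := hG.deg_one P
  obtain ⟨f, hf, hv⟩ := (mem_orders_iff hdeg ht heff hnorm
    ((isOrders_hcolAt_iff hdeg ht hH hnorm J').1 hJ') (J' l)).1 (Or.inr ⟨l, rfl⟩)
  have hfL : f ∈ L (mapDiv k φ) := by
    refine (Submodule.span_le.2 ?_) hf
    rintro _ ⟨i, rfl⟩
    rw [SetLike.mem_coe, Groth.Funfld2.mem_L_iff_ord (hφ.ne_zero i)]
    intro Q
    have := hF.ord_ge_neg_mapDiv φ Q i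
    omega
  have hf0 : f ≠ 0 := fun e => by rw [e, map_zero] at hv; exact WithZero.exp_ne_zero hv.symm
  have hE := Groth.Funfld2.div_add_nonneg hG hfL hf0
  have hEP : (FunFld.div k f + mapDiv k φ) P = J' l := by
    rw [Finsupp.add_apply, Groth.Funfld2.div_apply hG,
      mapDiv_apply_eq_zero hG hφ.ne_zero hnorm (exists_val_eq_one heff hnorm), add_zero,
      Groth.FunFld1.ord_eq_of_val_eq P hv, neg_neg]
  have hle : Finsupp.single P (J' l : ℤ) ≤ FunFld.div k f + mapDiv k φ := by
    classical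
    intro Q
    rw [Finsupp.single_apply]
    split_ifs with e
    · subst e; rw [hEP]
    · exact hE Q
  have h2 := Groth.Funfld2.deg_nonneg (sub_nonneg.2 hle)
  rw [Groth.Funfld2.deg_sub, Groth.Funfld2.deg_single, hG.deg_one, Groth.Funfld2.deg_add,
    hG.deg_div f hf0] at h2
  push_cast at h2
  omega

/-- Minimality: classical sequences are attained. -/
theorem classical_orders {τ : K →ₐ[k] K} {e : ℕ} (he : e ≤ 1)
    (hτ : (e = 1 ∧ τ = AlgHom.id k K) ∨ (e = 0 ∧ IsStrongFixedPt τ P))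
    (hinj : ∀ a b : ℕ, (∃ l, a ≤ J' l) → (∃ l, b ≤ J' l) → (a : k) = b → a = b)
    {J : Fin n → ℕ} (hJ : IsOrders K (hcol τ H φ) J) : ∀ l : Fin n, J l = (l : ℕ) + e := by
  intro l
  have hpos := orders_at_pos hK ht hH hnorm hJ'
  obtain ⟨N, hN⟩ : ∃ N : Fin n, ∀ i, J' i ≤ J' N := by
    obtain ⟨N, -, hN⟩ := Finset.univ.exists_max_image J' ⟨l, Finset.mem_univ l⟩
    exact ⟨N, fun i => hN i (Finset.mem_univ i)⟩
  have hdet := det_binomMat_classical (k := k) hJ'.1 he (fun r => by have := hpos r; omega) hN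
    (fun a ha b hb => hinj a b ⟨N, ha⟩ ⟨N, hb⟩)
  have hI : StrictMono (fun l : Fin n => (l : ℕ) + e) := fun a b h => by
    have : (a : ℕ) < b := h
    change (a : ℕ) + e < (b : ℕ) + e
    omega
  have hfix : IsFixedPt τ P := by
    rcases hτ with ⟨-, rfl⟩ | ⟨-, hs⟩
    · exact isFixedPt_id
    · exact fun z hz => (hs z hz).trans_lt
        (by rw [← WithZero.exp_zero, WithZero.exp_lt_exp]; norm_num)
  have hor : (∀ i : Fin n, 0 < (i : ℕ) + e) ∨ IsStrongFixedPt τ P := by
    rcases hτ with ⟨rfl, -⟩ | ⟨-, hs⟩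
    · exact Or.inl fun i => Nat.succ_pos _
    · exact Or.inr hs
  have h := ((det_bounds hK ht hH hφ heff hnorm hJ' hfix hI).2 hor).2 hdet
  have hle := orders_le hJ hI (fun e' => by rw [e', map_zero] at h; exact WithZero.exp_ne_zero h.symm) l
  have hge : ∀ (m : ℕ) (hm : m < n), m + e ≤ J ⟨m, hm⟩ := by
    intro m hm
    induction m with
    | zero =>
      rcases hτ with ⟨rfl, rfl⟩ | ⟨rfl, -⟩
      · have := orders_id_pos hH hJ ⟨0, hm⟩; omega
      · omega
    | succ m ih =>
      have := ih (by omega)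
      have := hJ.1 (show (⟨m, by omega⟩ : Fin n) < ⟨m + 1, hm⟩ from Fin.lt_def.2 (Nat.lt_succ_self m))
      omega
  exact le_antisymm hle (hge l.1 l.2)

end Classical

end Groth.Funfld2.Hasse
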