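import Groth.Agent.Funfld2.Hasse.AtPlace
import Mathlib.RingTheory.Polynomial.Pochhammer

/-! The order of a Wronskian at a fixed place, and binomial determinants. -/

open FunFld
open scoped LaurentSeries WithZero

namespace Groth.Funfld2.Hasse

section Det

variable {k : Type*} [Field k] {m : ℕ}

/-- Determinant of a matrix of Laurent series whose `(r, s)` entry vanishes below `a r - b s`. -/
theorem det_coeff (a b : Fin m → ℤ) (B : Matrix (Fin m) (Fin m) k⸨X⸩)
    (hB : ∀ r s, ∀ i < a r - b s, (B r s).coeff i = 0) :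
    (∀ i < (∑ r, a r) - ∑ s, b s, B.det.coeff i = 0) ∧
      B.det.coeff ((∑ r, a r) - ∑ s, b s) =
        (Matrix.of fun r s => (B r s).coeff (a r - b s)).det := by
  classical
  have hN : ∀ r s, ∃ f : PowerSeries k,
      B r s = HahnSeries.single (a r - b s) 1 * HahnSeries.ofPowerSeries ℤ k f := by
    intro r s
    obtain ⟨f, hf⟩ := (LaurentSeries.val_le_one_iff_eq_coe k
      (HahnSeries.single (-(a r - b s)) (1 : k) * B r s)).1 (by
        rw [← WithZero.exp_zero, ← neg_zero]
        refine (LaurentSeries.valuation_le_iff_coeff_lt_eq_zero k).2 fun i hi => ?_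
        rw [show i = (i + (a r - b s)) + -(a r - b s) by ring,
          HahnSeries.coeff_single_mul_add, one_mul]
        exact hB r s _ (by omega))
    refine ⟨f, ?_⟩
    rw [hf, ← mul_assoc, HahnSeries.single_mul_single, add_neg_cancel, one_mul]
    exact (one_mul _).symm
  choose f hf using hN
  set M := (∑ r, a r) - ∑ s, b s with hM
  let N : Matrix (Fin m) (Fin m) (PowerSeries k) := Matrix.of f
  have hprod : ∀ c : Fin m → ℤ, ∏ r, (HahnSeries.single (c r) (1 : k) : k⸨X⸩) =
      HahnSeries.single (∑ r, c r) 1 := by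
    intro c
    induction (Finset.univ : Finset (Fin m)) using Finset.induction_on with
    | empty => simp
    | @insert x u hx ih =>
      rw [Finset.prod_insert hx, Finset.sum_insert hx, ih, HahnSeries.single_mul_single, one_mul]
  have hdet : B.det = HahnSeries.single M 1 * HahnSeries.ofPowerSeries ℤ k N.det := by
    have hB' : B = Matrix.diagonal (fun r => HahnSeries.single (a r) (1 : k)) *
        (HahnSeries.ofPowerSeries ℤ k).mapMatrix N *
        Matrix.diagonal (fun s => HahnSeries.single (-b s) (1 : k)) := by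
      ext1 r s
      rw [Matrix.mul_diagonal, Matrix.diagonal_mul, hf, RingHom.mapMatrix_apply, Matrix.map_apply,
        show N r s = f r s from rfl, mul_right_comm, HahnSeries.single_mul_single, one_mul,
        sub_eq_add_neg]
    rw [hB', Matrix.det_mul, Matrix.det_mul, Matrix.det_diagonal, Matrix.det_diagonal, hprod, hprod,
      ← RingHom.map_det, mul_right_comm, HahnSeries.single_mul_single, one_mul, hM,
      Finset.sum_neg_distrib, sub_eq_add_neg]
  have hco : ∀ (g : PowerSeries k) (d : ℤ),
      (∀ i < d, (HahnSeries.single d (1 : k) * HahnSeries.ofPowerSeries ℤ k g).coeff i = 0) ∧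
      (HahnSeries.single d (1 : k) * HahnSeries.ofPowerSeries ℤ k g).coeff d =
        PowerSeries.constantCoeff g := by
    intro g d
    refine ⟨fun i hi => ?_, ?_⟩
    · rw [show i = (i - d) + d by ring, HahnSeries.coeff_single_mul_add, one_mul]
      exact (LaurentSeries.valuation_le_iff_coeff_lt_eq_zero k (D := 0)).1
        (by rw [neg_zero, WithZero.exp_zero]
            exact (LaurentSeries.val_le_one_iff_eq_coe k _).2 ⟨_, rfl⟩) _ (by omega)
    · have h := HahnSeries.coeff_single_mul_add (r := (1 : k))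
        (x := HahnSeries.ofPowerSeries ℤ k g) (a := (0 : ℤ)) (b := d)
      rw [zero_add, one_mul] at h
      rw [h, show (0 : ℤ) = ((0 : ℕ) : ℤ) from rfl, HahnSeries.ofPowerSeries_apply_coeff,
        PowerSeries.coeff_zero_eq_constantCoeff_apply]
  refine ⟨fun i hi => by rw [hdet]; exact (hco _ _).1 i hi, ?_⟩
  rw [hdet, (hco _ _).2, RingHom.map_det]
  congr 1
  ext r s
  change PowerSeries.constantCoeff (f r s) = (B r s).coeff (a r - b s)
  rw [hf, (hco _ _).2]

/-- Greedy selection of binomial columns. -/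
theorem exists_binom_selection {n : ℕ} (j : Fin (n + 1) → ℕ) (hj : StrictMono j) :
    ∃ I : Fin (n + 1) → ℕ, StrictMono I ∧ (∀ s, I s + j 0 ≤ j s) ∧ (binomMat k j I).det ≠ 0 := by
  classical
  let c : ℕ → Fin (n + 1) → k := fun m r => ((j r).choose m : ℕ)
  let c' : ℕ → Fin (n + 1) → k := fun m r => ((j r - j 0).choose m : ℕ)
  have hle : ∀ r, j 0 ≤ j r := fun r => hj.monotone (Fin.zero_le r)
  have htri : ∀ m, c m - (1 : k) • c' m ∈ Submodule.span k (c' '' Set.Iio m) := by
    intro m
    have e : c m - (1 : k) • c' m = ∑ p ∈ (Finset.HasAntidiagonal.antidiagonal m).erase (m, 0),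
        ((j 0).choose p.2 : k) • c' p.1 := by
      funext r
      have h := Nat.add_choose_eq (j r - j 0) (j 0) m
      rw [Nat.sub_add_cancel (hle r), ← Finset.sum_erase_add _ _
        (Finset.HasAntidiagonal.mem_antidiagonal.2 (add_zero m) :
          (m, 0) ∈ Finset.HasAntidiagonal.antidiagonal m)] at h
      simp only [Pi.sub_apply, Pi.smul_apply, Finset.sum_apply, one_smul, smul_eq_mul, c, c']
      rw [h, Nat.choose_zero_right, mul_one, Nat.cast_add, add_sub_cancel_right, Nat.cast_sum]
      exact Finset.sum_congr rfl fun p _ => by rw [Nat.cast_mul, mul_comm]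
    rw [e]
    refine Submodule.sum_mem _ fun p hp => Submodule.smul_mem _ _
      (Submodule.subset_span (Set.mem_image_of_mem _ ?_))
    obtain ⟨hne, hp⟩ := Finset.mem_erase.1 hp
    rw [Finset.HasAntidiagonal.mem_antidiagonal] at hp
    rcases p with ⟨p, q⟩
    simp only [ne_eq, Prod.mk.injEq] at hne
    simp only [Set.mem_Iio] at hp ⊢
    omega
  let d : Fin n → ℕ := fun s => j s.succ - j 0 - 1
  have hd1 : ∀ s : Fin n, j 0 < j s.succ := fun s => hj (Fin.succ_pos s)
  have hd : StrictMono d := fun a b hab => by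
    have := hj (Fin.succ_lt_succ_iff.2 hab)
    have := hd1 a
    have := hd1 b
    simp only [d]; omega
  have hcd : selDet c' d = 1 := by
    rw [selDet, Matrix.det_of_isLowerTriangular]
    · refine Finset.prod_eq_one fun i _ => ?_
      cases i using Fin.cases with
      | zero => simp [sel, c']
      | succ i => simp [sel, c', d, Nat.sub_add_cancel (Nat.sub_pos_of_lt (hd1 i))]
    · intro i q hiq
      have hiq' : i < q := hiq
      cases q using Fin.cases with
      | zero => exact absurd hiq' (Fin.not_lt.2 (Fin.zero_le i))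
      | succ q =>
        simp only [Matrix.of_apply, sel, Function.comp_apply, Fin.cons_succ, c', d]
        rw [Nat.choose_eq_zero_of_lt, Nat.cast_zero]
        have := hj hiq'
        have := hd1 q
        have := hle i
        omega
  have hind := selDet_ne_zero_iff.1 (hcd.trans_ne one_ne_zero)
  have hc0 : c' 0 ≠ 0 := fun h => by simpa [c'] using congrFun h 0
  have hspan : Submodule.span k (Set.range c') = ⊤ := by
    refine top_le_iff.1 ?_
    rw [← hind.span_eq_top_of_card_eq_finrank (by simp)]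
    exact Submodule.span_mono (Set.range_comp_subset_range _ c')
  obtain ⟨J, hJ⟩ := exists_isOrders (n := n) (Module.finrank_fin_fun k) hc0 hspan
  have hJd := orders_le_of_linearIndependent hJ hd hind
  refine ⟨Fin.cons 0 (fun s => J s + 1), strictMono_cons hJ.1, fun s => ?_, ?_⟩
  · cases s using Fin.cases with
    | zero => simp
    | succ s =>
      have := hJd s
      have := hd1 s
      simp only [Fin.cons_succ, d] at *
      omega
  · have h := selDet_triangular (fun _ => (1 : k)) htri hJ
    rw [Finset.prod_const_one, mul_one, one_mul] at h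
    change selDet c J ≠ 0
    rw [h]
    exact selDet_ne_zero hJ hc0

theorem det_binomMat_self {n : ℕ} {J : Fin n → ℕ} (hJ : StrictMono J) :
    (binomMat k J J).det = 1 := by
  rw [Matrix.det_of_isLowerTriangular]
  · exact Finset.prod_eq_one fun i _ => by simp [binomMat]
  · intro i q hiq
    have hiq' : i < q := hiq
    simp [binomMat, Nat.choose_eq_zero_of_lt (hJ hiq')]

end Det

variable {k K : Type*} [Field k] [Field K] [Algebra k K] {P : Place k K} {t : K}
  (hdeg : P.deg = 1) (ht : P.1 t = WithZero.exp (-1)) {H : K →ₐ[k] PowerSeries K}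
  [Algebra.IsSeparable (IntermediateField.adjoin k ({t} : Set K)) K] (hH : LocRes.IsHasseFamily t H)

include hdeg in
omit [Algebra.IsSeparable (IntermediateField.adjoin k ({t} : Set K)) K] in
theorem val_map_le_one {τ : K →ₐ[k] K} (hP : IsFixedPt τ P) {z : K} (hz : P.1 z ≤ 1) :
    P.1 (τ z) ≤ 1 := by
  obtain ⟨c, hc⟩ := exists_const_residue hdeg hz
  have h := hP _ hc
  rw [map_sub, AlgHom.commutes] at h
  rw [← sub_add_cancel (τ z) (algebraMap k K c)]
  exact (P.1.map_add _ _).trans (max_le h.le (P.2.1 c))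

include hdeg ht in
omit [Algebra.IsSeparable (IntermediateField.adjoin k ({t} : Set K)) K] in
theorem val_map_le {τ : K →ₐ[k] K} (hP : IsFixedPt τ P) {z : K} {j : ℕ}
    (hz : P.1 z ≤ WithZero.exp (-(j : ℤ))) : P.1 (τ z) ≤ WithZero.exp (-(j : ℤ)) ∧
      (IsStrongFixedPt τ P → P.1 (τ z) ≤ WithZero.exp (-(2 * j : ℤ))) := by
  have ht0 : t ≠ 0 := fun e => by rw [e, map_zero] at ht; exact WithZero.exp_ne_zero ht.symm
  have hu : P.1 (z / t ^ j) ≤ 1 := by
    rw [map_div₀, val_t_pow ht]
    exact div_le_one_of_le₀ hz WithZero.exp_pos.le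
  have hτu := val_map_le_one hdeg hP hu
  have e : τ z = τ (z / t ^ j) * τ t ^ j := by
    rw [← map_pow, ← map_mul, div_mul_cancel₀ z (pow_ne_zero j ht0)]
  have key : ∀ d : ℕ, P.1 (τ t) ≤ WithZero.exp (-(d : ℤ)) →
      P.1 (τ z) ≤ WithZero.exp (-((d * j : ℕ) : ℤ)) := by
    intro d hd
    rw [e, map_mul, map_pow]
    refine (mul_le_mul' hτu (pow_le_pow_left₀ zero_le hd j)).trans_eq ?_
    rw [one_mul, ← WithZero.exp_nsmul]
    congr 1
    push_cast
    ring
  have h1 : P.1 t < 1 := by rw [ht, ← WithZero.exp_zero, WithZero.exp_lt_exp]; norm_num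
  refine ⟨?_, fun hs => ?_⟩
  · have := key 1 (by
      have h2 := hP t h1
      by_cases h0 : τ t = 0
      · simp [h0]
      · rw [val_lt_one_iff_ord P h0] at h2
        rw [val_le_exp_iff P h0]
        omega)
    simpa using this
  · have := key 2 (by simpa using hs t h1)
    push_cast at this
    exact this

include hdeg ht hH in
/-- The order of the Wronskian at a fixed place. -/
theorem val_det_wrMat {τ : K →ₐ[k] K} (hP : IsFixedPt τ P) {n : ℕ} {φ : Fin (n + 1) → K}
    (hφ : LinearIndependent k φ) (heff : (1 : K) ∈ Submodule.span k (Set.range φ))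
    (hnorm : ∀ i, P.1 (φ i) ≤ 1) {J : Fin n → ℕ} (hJ : IsOrders k (coefCol hdeg ht φ) J)
    {I : Fin n → ℕ} (hI : StrictMono I) :
    P.1 (wrMat τ H φ I).det ≤ WithZero.exp (-(∑ l, ((J l : ℤ) - I l))) ∧
    (((∀ l, 0 < I l) ∨ IsStrongFixedPt τ P) →
      (P.1 (wrMat τ H φ I).det = WithZero.exp (-(∑ l, ((J l : ℤ) - I l))) ↔
        (binomMat k J I).det ≠ 0)) := by
  classical
  obtain ⟨ψ, hψ, hspan, hψ0, hl⟩ := exists_adapted hdeg ht hφ heff hnorm hJ
  have hmem : ∀ i, ψ i ∈ Submodule.span k (Set.range φ) := fun i =>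
    hspan ▸ Submodule.subset_span ⟨i, rfl⟩
  choose A hA using fun i => (Submodule.mem_span_range_iff_exists_fun k).1 (hmem i)
  have hAdet : (Matrix.of A).det ≠ 0 := by
    intro h0
    obtain ⟨v, hv, hv0⟩ := Matrix.exists_vecMul_eq_zero_iff.2 h0
    refine hv (funext (Fintype.linearIndependent_iff.1 hψ v ?_))
    simp only [← hA, Finset.smul_sum, smul_smul]
    rw [Finset.sum_comm]
    refine Finset.sum_eq_zero fun q _ => ?_
    rw [← Finset.sum_smul]
    have := congrFun hv0 q
    simp only [Matrix.vecMul, dotProduct, Matrix.of_apply, Pi.zero_apply] at this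
    rw [this, zero_smul]
  have hd := (linear_change (H := H) τ φ ψ (Matrix.of A) hAdet fun i => (hA i).symm).2 I
  have hval : P.1 (wrMat τ H ψ I).det = P.1 (wrMat τ H φ I).det := by
    rw [hd, map_mul, Groth.Funfld2.val_algebraMap P hAdet, one_mul]
  rw [← hval]
  clear hd hval
  -- eliminate the constant row
  let c : Fin (n + 1) → K := Fin.cons 0 (fun l => LocRes.hasseD H (I l) 1)
  let B : Matrix (Fin n) (Fin n) K := Matrix.of fun r l =>
    LocRes.hasseD H (I l) (ψ r.succ) - τ (ψ r.succ) * LocRes.hasseD H (I l) 1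
  have hdetB : (wrMat τ H ψ I).det = B.det := by
    let W : Matrix (Fin (n + 1)) (Fin (n + 1)) K :=
      Matrix.of fun i q => wrMat τ H ψ I i q - c q * wrMat τ H ψ I i 0
    have hW : (wrMat τ H ψ I).det = W.det := by
      rw [← Matrix.det_transpose, ← Matrix.det_transpose W]
      refine Matrix.det_eq_of_forall_row_eq_smul_add_const c 0 (by simp [c]) fun q i => ?_
      simp only [Matrix.transpose_apply, W, Matrix.of_apply, c, Fin.cons_zero, zero_mul, sub_zero]
      ring
    rw [hW, Matrix.det_succ_row_zero, Finset.sum_eq_single 0]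
    · rw [Fin.val_zero, pow_zero, one_mul]
      have e0 : W 0 0 = 1 := by simp [W, c, wrMat, hψ0]
      rw [e0, one_mul]
      congr 1
      ext1 r l
      simp only [Matrix.submatrix_apply, Fin.zero_succAbove, W, B, Matrix.of_apply, c, wrMat,
        Fin.cases_zero, Fin.cases_succ, Fin.cons_succ]
      ring
    · intro q _ hq
      obtain ⟨l, rfl⟩ := Fin.exists_succ_eq.2 hq
      have : W 0 l.succ = 0 := by simp [W, c, wrMat, hψ0]
      rw [this, mul_zero, zero_mul]
    · simp
  set e := expansion hdeg ht with he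
  have hDone : ∀ m, m ≠ 0 → LocRes.hasseD H m 1 = 0 := fun m hm => by
    rw [← map_one (algebraMap k K), hasseD_algebraMap H hm]
  -- coefficients of the entries
  have hjge : ∀ r : Fin n, ∀ i < (J r : ℤ), (e (ψ r.succ)).coeff i = 0 := fun r =>
    ((val_eq_exp_iff_coeff hdeg ht _ _).1 (hl r).1).1
  have hcf : ∀ r l, (∀ i < (J r : ℤ) - I l, (e (LocRes.hasseD H (I l) (ψ r.succ))).coeff i = 0) ∧
      (e (LocRes.hasseD H (I l) (ψ r.succ))).coeff ((J r : ℤ) - I l) = ((J r).choose (I l) : ℕ) := by
    intro r l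
    refine ⟨fun i hi => ?_, ?_⟩
    · rw [coeff_expansion_hasseD hdeg ht hH, hjge r _ (by omega), smul_zero]
    · rw [coeff_expansion_hasseD hdeg ht hH, sub_add_cancel, Ring.choose_natCast, (hl r).2,
        Nat.cast_smul_eq_nsmul, nsmul_one]
  have hτ : ∀ r : Fin n, (∀ i < (J r : ℤ), (e (τ (ψ r.succ))).coeff i = 0) ∧
      (IsStrongFixedPt τ P → (e (τ (ψ r.succ))).coeff (J r : ℤ) = 0) := by
    intro r
    obtain ⟨h1, h2⟩ := val_map_le hdeg ht hP (hl r).1.le
    refine ⟨(val_le_exp_iff_coeff hdeg ht _ _).1 h1, fun hs => ?_⟩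
    refine (val_le_exp_iff_coeff hdeg ht _ _).1 (h2 hs) _ ?_
    have := zero_notMem_orders hdeg ht hJ r
    omega
  have hBlow : ∀ r l, ∀ i < (J r : ℤ) - I l, (e (B r l)).coeff i = 0 := by
    intro r l i hi
    simp only [B, Matrix.of_apply, map_sub, HahnSeries.coeff_sub, (hcf r l).1 i hi, zero_sub,
      neg_eq_zero]
    rcases eq_or_ne (I l) 0 with h | h
    · rw [h, hasseD_zero hH, mul_one]
      exact (hτ r).1 i (by omega)
    · rw [hDone _ h, mul_zero, map_zero, HahnSeries.coeff_zero]
  have hBtop : ((∀ l, 0 < I l) ∨ IsStrongFixedPt τ P) → ∀ r l,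
      (e (B r l)).coeff ((J r : ℤ) - I l) = ((J r).choose (I l) : ℕ) := by
    intro hor r l
    simp only [B, Matrix.of_apply, map_sub, HahnSeries.coeff_sub, (hcf r l).2, sub_eq_self]
    rcases eq_or_ne (I l) 0 with h | h
    · rw [h, hasseD_zero hH, mul_one, Nat.cast_zero, sub_zero]
      exact (hτ r).2 (hor.resolve_left fun hh => by have := hh l; omega)
    · rw [hDone _ h, mul_zero, map_zero, HahnSeries.coeff_zero]
  obtain ⟨h1, h2⟩ := det_coeff (fun r => (J r : ℤ)) (fun l => (I l : ℤ))
    (e.toRingHom.mapMatrix B) hBlow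
  rw [← RingHom.map_det, ← Finset.sum_sub_distrib] at h1 h2
  rw [hdetB]
  refine ⟨(val_le_exp_iff_coeff hdeg ht _ _).2 h1, fun hor => ?_⟩
  rw [val_eq_exp_iff_coeff hdeg ht, and_iff_right (by exact h1), ne_eq]
  have : (Matrix.of fun r s => (e.toRingHom.mapMatrix B r s).coeff ((J r : ℤ) - I s)) =
      binomMat k J I := by
    ext r s
    exact hBtop hor r s
  rw [this] at h2
  exact not_congr (by exact ⟨fun h => h2.symm.trans h, fun h => h2.trans h⟩)

end Groth.Funfld2.Hasse
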